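import Cfsg.Agent.Mrg.Omega.NO3b.BetaTwo.Def
import Cfsg.Agent.Mrg.Omega.NO3b.Chain.Two
import Cfsg.Agent.Mrg.Omega.NO3b.Exit.AllLocal
import Cfsg.Agent.Mrg.Omega.NOne.LemmaT
import Cfsg.Agent.Mrg.Omega.NO3b.K0.Mix.Pan
import Cfsg.Agent.Mrg.Omega.NOne.Flat.Off

section


/-!
# THEOREM BETA2 (bb #20914): the frame at a member of the chain

`Stage S L`, `(F, T, X)` a panel of `V = VL S L`, `Z ≤ F`, `H = nx S L X`, `V_H = zl S H` not FF and not in
`O₂(C_G(Z))`: `exists_bt` : `Bt V F T X (N_G(C_S(V))) C_S(V) V' F₁`, `V' = VL S (LH S H)`, with `⟨V^H⟩ ≤ V'`,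
`⟨V^H⟩ ≰ E`.
-/

set_option autoImplicit false

namespace Cfsg.Agent.Omega.NO3b.BetaTwo

open Subgroup Cfsg
open Cfsg.Agent.ZN (o2 zc zl)
open Cfsg.Agent.ZN.ChoiceBase hiding mem_zc
open Cfsg.Agent.Omega.NO3b.EZero (NotFF Par cent_symm cj_cent cl le_cl cj_le_cl cl_le le_normalizer_cl)
open Cfsg.Agent.Omega.NO3b.Alpha (Fl)
open Cfsg.Agent.Omega.NO3b.Wc
open Cfsg.Agent.Omega.NO3b.Exit
open Cfsg.Agent.Omega.NO3b.Chain
open Cfsg.Agent.Omega.NO3b.K0.Mix (Pan SM Two)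
open Cfsg.Agent.Omega.NOne.Flat (EE WW NN)
open Cfsg.Agent.Omega.NOne.NearFF (c)
open Cfsg.Agent.MinSimple.VModule (zc_le_zl le_normalizer_zl zl_le)

universe u

variable {G : Type u} [Group G] [Finite G] {S : Sylow 2 G} {L F T X : Subgroup G}

/-- the lines are good -/
theorem good_cj (h : Stage S L) (hc : IsCharacteristicTwoType G) (g : G) (D : Subgroup G)
    (hD : D ≤ cj g (VL (S : Subgroup G) L)) (hD1 : D ≠ ⊥) :
    cj g (VL (S : Subgroup G) L) ≤ o2 (centralizer (D : Set G)) := by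
  have h1 := h.good hc (D := cj g⁻¹ D) (by
    have h1 := cj_mono g⁻¹ hD
    rwa [cj_inv_cj] at h1) (fun h0 => hD1 (by
    have h1 := congrArg (cj g) h0
    rwa [cj_cj_inv, K0.cj_bot'] at h1))
  have h2 := cj_mono g h1
  rwa [← Cfsg.Agent.ZN.ChoiceBase.pCore_cj, cj_centralizer, cj_cj_inv] at h2

section

variable (h : Stage S L) (hc : IsCharacteristicTwoType G) (hne : zc (S : Subgroup G) ≠ ⊥)
  (f : Fl S (VL (S : Subgroup G) L) F T) (hZ : zc (S : Subgroup G) ≤ F)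
  (p : Par (VL (S : Subgroup G) L) F T X)
include h hc hne f hZ p

theorem exists_bt (hno : NoOver (VL (S : Subgroup G) L) X) (hn : NotFF (zl (S : Subgroup G) (nx (S : Subgroup G) L X)))
    (hV : ¬ zl (S : Subgroup G) (nx (S : Subgroup G) L X) ≤ o2 (centralizer (zc (S : Subgroup G) : Set G))) :
    ∃ F₁ : Subgroup G, Bt (VL (S : Subgroup G) L) F T X
      (normalizer (((S : Subgroup G) ⊓ centralizer (VL (S : Subgroup G) L : Set G) : Subgroup G) : Set G))
      ((S : Subgroup G) ⊓ centralizer (VL (S : Subgroup G) L : Set G))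
      (VL (S : Subgroup G) (LH (S : Subgroup G) (nx (S : Subgroup G) L X))) F₁ ∧
      ¬ cl (VL (S : Subgroup G) L) (nx (S : Subgroup G) L X) ≤
        EE (VL (S : Subgroup G) (LH (S : Subgroup G) (nx (S : Subgroup G) L X))) F₁ ∧
      cl (VL (S : Subgroup G) L) (nx (S : Subgroup G) L X) ≤
        VL (S : Subgroup G) (LH (S : Subgroup G) (nx (S : Subgroup G) L X)) := by
  set V := VL (S : Subgroup G) L with hVd
  set H := nx (S : Subgroup G) L X with hH
  set V' := VL (S : Subgroup G) (LH (S : Subgroup G) H) with hV'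
  have fr := h.fr hc hne f hZ p
  have a := h.adm hc hne
  have l := h.lines hc hne
  have hOff := Final.stmtOff G
  have hle : zl (S : Subgroup G) H ≤ V' := fr.zl_le_V' a hn
  obtain ⟨F₁, hF₁, hWB, hWX, -⟩ := fr.beta a hc hOff (S_ne hne) hn (fun h0 => hV (hle.trans h0))
  have root : Root S (LH (S : Subgroup G) H) := root_LH (fr.SH a) fr.char2 hn
  have hy : NOne.Flat.Hyp V' F₁ := hyp_of hc root hF₁
  have pn := pan f l p fun g hg => Alpha.ti hc l g hg
  have hVH : cl V H ≤ zl (S : Subgroup G) H := by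
    refine cl_le fun x hx => ?_
    have h1 := cj_mono x fr.V_le
    rwa [cj_eq_of_mem_normalizer (le_normalizer_zl _ _ hx)] at h1
  have hHV : zl (S : Subgroup G) H ≤ cl V H :=
    zl_le (l.ZV.trans (le_cl _ _)) (le_normalizer_cl V H)
  have hUH : cl V X ≤ zl (S : Subgroup G) H := fr.U_le
  refine ⟨F₁, ?_, fun h0 => ?_, hVH.trans hle⟩
  · exact
      { pan := pn
        noov := K0.noOv FFBr.aStmt (f.sylX p) (f.isMinPar l p)
        sm := sm l hc pn
        two := h.two hc hne f hZ p (Or.inr hV)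
        hno := hno
        hy := hy
        hoff := hOff _ _ hy
        good := good_cj h hc
        WQ := by
          have h1 := h.toRoot.cs_V
          rw [h1]
          exact hWB
        WX := hWX
        UV := hUH.trans hle }
  · -- `W` centralises `V_H`
    have h1 : zl (S : Subgroup G) H ≤ EE V' F₁ := hHV.trans h0
    have h2 := hy.off_of_le (hOff _ _ hy) h1
    have hW2 : IsPGroup 2 (WW V' F₁) := WW_pgroup _ _
    have hWH : WW V' F₁ ≤ normalizer (zl (S : Subgroup G) H : Set G) :=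
      ((hWB.trans a.wc.le).trans (fr.SH a)).trans (le_normalizer_zl _ _)
    obtain ⟨e1, e2⟩ := hy.elem_W hle
    by_cases hcen : WW V' F₁ ≤ centralizer (zl (S : Subgroup G) H : Set G)
    · exact hWX (pn.le_o2_of_cent_U hW2 ((hWB.trans fr.BT).trans fr.syl.1) (hcen.trans (centralizer_le hUH)))
    · have h3 := hn (WW V' F₁) hW2 hWH (fun s hs => by rw [pow_two]; exact e2 s hs)
        (fun s hs t ht => e1 s hs t ht) hcen
      exact absurd h2 (not_le.2 h3)

end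

end Cfsg.Agent.Omega.NO3b.BetaTwo

end

section


/-!
# THEOREM BETA2 (bb OMEGA #20914, helper235), (6)

`Flat.Hyp V F` (the text's `V'`, `F₁`), `W = W_F`, `E = V ∩ O₂(C_G(F))`, `N = C_W(E)`, `B ≤ W`, `C_G(F) ≤ N(B)`,
`c w s = [w, s]`.  `W` acts on `V` as an abelian group: `[[w, b], s] = [[w, s], b]`.

* `Key.comm_left`, `Key.comm_right` : `{[r, s] : s ∈ W} = {[e, b] : e ∈ E}` for `r ∈ [w, b] F`, `w ∈ V - E`;
* `Key.meet` : `|V ∩ B : V ∩ B ∩ F| < |V : E|²`: for `b, b' ∈ B - N` there are `w, w' ∈ V - E` with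
  `[w, b] F = [w', b'] F`;
* `Key.key`, `Bt.key` : **(6)** `{[r, s] : s ∈ W}` is the same group for all `r ∈ V ∩ B - F`.

Author: helper111.
-/

set_option autoImplicit false

namespace Cfsg.Agent.Omega.NO3b.BetaTwo

open Subgroup Cfsg
open Cfsg.Agent.Omega.NOne.Flat (Hyp EE WW NN)
open Cfsg.Agent.Omega.NOne.NearFF (c c_def)

universe u

variable {G : Type u} [Group G] [Finite G]

namespace Key

variable {V F B : Subgroup G} (h : Hyp V F)
include h

/-- `[r, s] = [[w, s], b]` for `r ∈ [w, b] F` -/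
theorem comm_left {w b r s : G} (hw : w ∈ V) (hb : b ∈ WW V F) (hs : s ∈ WW V F) (hr : r ∈ V)
    (hrb : (c w b)⁻¹ * r ∈ F) : c r s = c (c w s) b := by
  rw [← h.c_congr_left (h.c_memV hw hb) hr hs hrb, h.beta_comm hw hb hs]

/-- for `e ∈ E` there is `s ∈ W` with `[r, s] = [e, b]` -/
theorem comm_right {w b r e : G} (hw : w ∈ V) (hwE : w ∉ EE V F) (hb : b ∈ WW V F) (hr : r ∈ V)
    (hrb : (c w b)⁻¹ * r ∈ F) (he : e ∈ EE V F) : ∃ s ∈ WW V F, c r s = c e b := by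
  obtain ⟨s, hs, hse⟩ := h.surj hw hwE he
  refine ⟨s, hs, ?_⟩
  rw [comm_left h hw hb hs hr hrb]
  refine h.c_congr_left (h.c_memV hw hs) he.1 hb ?_
  rw [h.inv (h.c_memV hw hs)]
  rw [h.inv he.1] at hse
  exact hse

/-- `[w w', b] = [w, b] [w', b]`, for `w⁻¹ w'` -/
theorem c_inv_mul {w w' b : G} (hw : w ∈ V) (hw' : w' ∈ V) (hb : b ∈ WW V F) :
    c (w⁻¹ * w') b = (c w b)⁻¹ * c w' b := by
  rw [h.c_mul_left (inv_mem hw) hw' hb, h.c_inv_left hw hb]

/-- for `b, b' ∈ B - N` there are `w, w' ∈ V - E` with `[w, b] F = [w', b'] F`. -/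
theorem meet (hW : B ≤ WW V F) (hX : centralizer (F : Set G) ≤ normalizer (B : Set G))
    (hc : F.relIndex (V ⊓ B) < (EE V F).relIndex V * (EE V F).relIndex V) {b b' : G} (hb : b ∈ B)
    (hb' : b' ∈ B) (hbN : b ∉ NN V F) (hbN' : b' ∉ NN V F) :
    ∃ w ∈ V, ∃ w' ∈ V, w ∉ EE V F ∧ w' ∉ EE V F ∧ (c w b)⁻¹ * c w' b' ∈ F := by
  have hcB : ∀ w ∈ V, ∀ s ∈ B, c w s ∈ V ⊓ B := fun w hw s hs => by
    refine mem_inf.2 ⟨h.c_memV hw (hW hs), ?_⟩
    have h1 := (mem_normalizer_iff.1 (hX (h.V_le_X hw)) s).1 hs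
    rw [c_def]
    exact mul_mem h1 (inv_mem hs)
  -- a non-injective map
  let f : (V ⧸ (EE V F).subgroupOf V) × (V ⧸ (EE V F).subgroupOf V) →
      ((V ⊓ B : Subgroup G) ⧸ F.subgroupOf (V ⊓ B)) := fun x =>
    QuotientGroup.mk ⟨c (x.1.out : G) b * c (x.2.out : G) b',
      mul_mem (hcB _ x.1.out.2 b hb) (hcB _ x.2.out.2 b' hb')⟩
  have hf : ¬ Function.Injective f := by
    intro hinj
    have h1 := Nat.card_le_card_of_injective f hinj
    rw [Nat.card_prod] at h1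
    exact absurd h1 (not_le.2 hc)
  rw [Function.Injective] at hf
  push Not at hf
  obtain ⟨x, y, hxy, hne⟩ := hf
  have h1 : ((⟨c (x.1.out : G) b * c (x.2.out : G) b', _⟩ : (V ⊓ B : Subgroup G))⁻¹ *
      ⟨c (y.1.out : G) b * c (y.2.out : G) b', mul_mem (hcB _ y.1.out.2 b hb) (hcB _ y.2.out.2 b' hb')⟩) ∈
        F.subgroupOf (V ⊓ B) := QuotientGroup.eq.1 hxy
  rw [mem_subgroupOf] at h1
  simp only [coe_mul, coe_inv] at h1
  set w := (x.1.out : G)⁻¹ * (y.1.out : G) with hwd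
  set w' := (x.2.out : G)⁻¹ * (y.2.out : G) with hwd'
  have hw : w ∈ V := mul_mem (inv_mem x.1.out.2) y.1.out.2
  have hw' : w' ∈ V := mul_mem (inv_mem x.2.out.2) y.2.out.2
  have e1 : c w b * c w' b' ∈ F := by
    rw [hwd, hwd', c_inv_mul h x.1.out.2 y.1.out.2 (hW hb), c_inv_mul h x.2.out.2 y.2.out.2 (hW hb')]
    have k1 := h.c_memV x.1.out.2 (hW hb)
    have k2 := h.c_memV y.1.out.2 (hW hb)
    have k3 := h.c_memV x.2.out.2 (hW hb')
    have k4 := h.c_memV y.2.out.2 (hW hb')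
    have e : (c (x.1.out : G) b)⁻¹ * c (y.1.out : G) b * ((c (x.2.out : G) b')⁻¹ * c (y.2.out : G) b') =
        (c (x.1.out : G) b * c (x.2.out : G) b')⁻¹ * (c (y.1.out : G) b * c (y.2.out : G) b') := by
      rw [mul_inv_rev, h.V_comm (inv_mem k3) (inv_mem k1)]
      rw [mul_assoc, mul_assoc, ← mul_assoc (c (y.1.out : G) b), h.V_comm k2 (inv_mem k3), mul_assoc]
    rw [e]
    exact h1
  have hE1 : w ∈ EE V F → w' ∈ EE V F := fun hwE => by
    refine h.mem_E_of_c hw' (hW hb') hbN' ?_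
    have k1 : c w b ∈ F := h.comm_EW hwE (hW hb)
    have := mul_mem (inv_mem k1) e1
    rwa [inv_mul_cancel_left] at this
  have hE2 : w' ∈ EE V F → w ∈ EE V F := fun hwE => by
    refine h.mem_E_of_c hw (hW hb) hbN ?_
    have k1 : c w' b' ∈ F := h.comm_EW hwE (hW hb')
    have := mul_mem e1 (inv_mem k1)
    rwa [mul_inv_cancel_right] at this
  have hnE : w ∉ EE V F := by
    intro hwE
    apply hne
    have q1 : x.1 = y.1 := by
      rw [← QuotientGroup.out_eq' x.1, ← QuotientGroup.out_eq' y.1]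
      exact QuotientGroup.eq.2 (mem_subgroupOf.2 hwE)
    have q2 : x.2 = y.2 := by
      rw [← QuotientGroup.out_eq' x.2, ← QuotientGroup.out_eq' y.2]
      exact QuotientGroup.eq.2 (mem_subgroupOf.2 (hE1 hwE))
    exact Prod.ext q1 q2
  refine ⟨w, hw, w', hw', hnE, fun h2 => hnE (hE2 h2), ?_⟩
  rw [h.inv (h.c_memV hw (hW hb))]
  exact e1

/-- `{[e, b] : e ∈ E}` does not depend on `b ∈ B - N`. -/
theorem same (hW : B ≤ WW V F) (hX : centralizer (F : Set G) ≤ normalizer (B : Set G))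
    (hc : F.relIndex (V ⊓ B) < (EE V F).relIndex V * (EE V F).relIndex V) {b b' : G} (hb : b ∈ B)
    (hb' : b' ∈ B) (hbN : b ∉ NN V F) (hbN' : b' ∉ NN V F) {e : G} (he : e ∈ EE V F) :
    ∃ e' ∈ EE V F, c e' b' = c e b := by
  obtain ⟨w, hw, w', hw', hwE, hwE', h1⟩ := meet h hW hX hc hb hb' hbN hbN'
  have k1 := h.c_memV hw (hW hb)
  have k2 := h.c_memV hw' (hW hb')
  -- `r = [w', b']`
  obtain ⟨s, hs, hse⟩ := comm_right h hw hwE (hW hb) k2 h1 he
  refine ⟨c w' s, h.c_memE hw' hs, ?_⟩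
  rw [← hse]
  refine (comm_left h hw' (hW hb') hs k2 ?_).symm
  rw [inv_mul_cancel]
  exact one_mem _

/-- **(6)** -/
theorem key (hW : B ≤ WW V F) (hX : centralizer (F : Set G) ≤ normalizer (B : Set G))
    (h3 : ∀ w ∈ V, w ∉ EE V F → ∀ r ∈ V ⊓ B, ∃ b ∈ B, c w b * r⁻¹ ∈ F) (hBN : ¬ B ≤ NN V F)
    (hc : F.relIndex (V ⊓ B) < (EE V F).relIndex V * (EE V F).relIndex V) :
    ∃ ρ : Subgroup G, ∀ r ∈ V ⊓ B, r ∉ F → ∀ d, d ∈ ρ ↔ ∃ s ∈ WW V F, c r s = d := by
  obtain ⟨b₀, hb₀, hbN₀⟩ := SetLike.not_le_iff_exists.1 hBN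
  let ρ : Subgroup G :=
    { carrier := {d | ∃ e ∈ EE V F, c e b₀ = d}
      one_mem' := ⟨1, one_mem _, by rw [c_def]; group⟩
      mul_mem' := by
        rintro _ _ ⟨e, he, rfl⟩ ⟨e', he', rfl⟩
        exact ⟨e * e', mul_mem he he', h.c_mul_left he.1 he'.1 (hW hb₀)⟩
      inv_mem' := by
        rintro _ ⟨e, he, rfl⟩
        exact ⟨e⁻¹, inv_mem he, h.c_inv_left he.1 (hW hb₀)⟩ }
  refine ⟨ρ, fun r hr hrF d => ?_⟩
  obtain ⟨w, hw, hwE⟩ := h.exists_not_mem
  obtain ⟨b, hb, hrb⟩ := h3 w hw hwE r hr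
  have hrV : r ∈ V := hr.1
  have hcV := h.c_memV hw (hW hb)
  have hbN : b ∉ NN V F := by
    intro h1
    apply hrF
    have h2 := mul_mem (inv_mem (h.c_mem_F hw h1)) hrb
    rw [inv_mul_cancel_left] at h2
    exact (inv_mem_iff).1 h2
  have hrb' : (c w b)⁻¹ * r ∈ F := by
    rw [h.inv hcV]
    rw [h.inv hrV] at hrb
    exact hrb
  constructor
  · rintro ⟨e, he, rfl⟩
    obtain ⟨e', he', h4⟩ := same h hW hX hc hb₀ hb hbN₀ hbN he
    obtain ⟨s, hs, h5⟩ := comm_right h hw hwE (hW hb) hrV hrb' he'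
    exact ⟨s, hs, h5.trans h4⟩
  · rintro ⟨s, hs, rfl⟩
    obtain ⟨e', he', h4⟩ := same h hW hX hc hb hb₀ hbN hbN₀ (h.c_memE hw hs)
    exact ⟨e', he', by rw [h4, comm_left h hw (hW hb) hs hrV hrb']⟩

end Key

/-- **(6)** -/
theorem Bt.key {V F T X L Q0 V' F₁ : Subgroup G} (t : Bt V F T X L Q0 V' F₁)
    (h3 : ∀ w ∈ V', w ∉ EE V' F₁ → ∀ r ∈ V' ⊓ BB V X F₁, ∃ b ∈ BB V X F₁, c w b * r⁻¹ ∈ F₁)
    (h3' : (NN V' F₁).relIndex (BB V X F₁) = F₁.relIndex (V' ⊓ BB V X F₁))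
    (hBN : ¬ BB V X F₁ ≤ NN V' F₁)
    (hc : 2 * (NN V' F₁).relIndex (BB V X F₁) ≤ (EE V' F₁).relIndex V' * (EE V' F₁).relIndex V') :
    ∃ ρ : Subgroup G, ∀ r ∈ V' ⊓ BB V X F₁, r ∉ F₁ → ∀ d, d ∈ ρ ↔ ∃ s ∈ WW V' F₁, c r s = d := by
  have h0 : 0 < F₁.relIndex (V' ⊓ BB V X F₁) := Nat.pos_of_ne_zero index_ne_zero_of_finite
  rw [h3'] at hc
  exact Key.key t.hy t.B_le_W Bt.X'_norm_B h3 hBN (by omega)

end Cfsg.Agent.Omega.NO3b.BetaTwo

end

section


/-!
# THEOREM BETA2 (helper235 #20914), step (7): the end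

`V' = V_{LH}`, `F₁` maximal bad in `V'`, `W = WW V' F₁`, `U = cl V X ≤ E = EE V' F₁`, `[r, W] = ρ` is the same group
for all `r ∈ U - F₁`.

* `card_le` : a pairing `A × B → R` which is onto for every `a ∈ A - F` gives `|A : F| ≤ |B : C|`;
* `inf_F₁` : a line `V₁` moved by `W` meets `F₁` in `F`;
* `cent_moved` : `N_W(V₁)` centralises a moved line; `cent_unmoved` : `W` centralises an unmoved line;
* `end_` : the contradiction.
-/

set_option autoImplicit false

namespace Cfsg.Agent.Omega.NO3b.BetaTwo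

open Subgroup Cfsg Cfsg.Agent.ZN Cfsg.Agent.ZN.ChoiceBase
open Cfsg.Agent.ZN.ChoiceSit hiding EE
open Cfsg.Agent.MinSimple.VModule (oddGen oddGen_le)
open Cfsg.Agent.Omega.NO3b.EZero
open Cfsg.Agent.Omega.NO3b.K0 (NoOv)
open Cfsg.Agent.Omega.NO3b.K0.Mix (Pan Two)
open Cfsg.Agent.Omega.NOne (Flat.Hyp)
open Cfsg.Agent.Omega.NOne.Flat (EE WW)
open Cfsg.Agent.Omega.NOne.NearFF (c c_def)

universe u

/-! ### a pairing -/

theorem sum_units {B : Type*} [Group B] [Fintype B] (t : B → ℤˣ) (ht : ∀ b b', t (b * b') = t b * t b') :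
    ∑ b, ((t b : ℤˣ) : ℤ) = by classical exact if (∀ b, t b = 1) then (Fintype.card B : ℤ) else 0 := by
  classical
  split_ifs with h
  · simp [h]
  · push Not at h
    obtain ⟨c, hc⟩ := h
    have hc' : t c = -1 := (Int.units_eq_one_or (t c)).resolve_left hc
    have h1 : ∑ b, ((t b : ℤˣ) : ℤ) = ∑ b, ((t (c * b) : ℤˣ) : ℤ) :=
      (Fintype.sum_equiv (Equiv.mulLeft c) _ _ (fun b => rfl)).symm
    have h2 : ∑ b, ((t (c * b) : ℤˣ) : ℤ) = - ∑ b, ((t b : ℤˣ) : ℤ) := by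
      rw [← Finset.sum_neg_distrib]
      refine Finset.sum_congr rfl fun b _ => ?_
      rw [ht, hc']
      simp
    omega

/-- double counting for a pairing with values `±1` -/
theorem pairing_units {A B : Type*} [Group A] [Group B] [Finite A] [Finite B] (s : A → B → ℤˣ)
    (hl : ∀ a a' b, s (a * a') b = s a b * s a' b) (hr : ∀ a b b', s a (b * b') = s a b * s a b') :
    Nat.card {a // ∀ b, s a b = 1} * Nat.card B = Nat.card A * Nat.card {b // ∀ a, s a b = 1} := by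
  classical
  have := Fintype.ofFinite A
  have := Fintype.ofFinite B
  have h1 : ∑ a, ∑ b, ((s a b : ℤˣ) : ℤ) = Nat.card {a // ∀ b, s a b = 1} * Nat.card B := by
    have : ∀ a, ∑ b, ((s a b : ℤˣ) : ℤ) = if (∀ b, s a b = 1) then (Fintype.card B : ℤ) else 0 :=
      fun a => by
        rw [sum_units (s a) (hr a)]
    simp only [this]
    rw [Finset.sum_ite, Finset.sum_const_zero, add_zero, Finset.sum_const, nsmul_eq_mul,
      Nat.card_eq_fintype_card, Nat.card_eq_fintype_card, Fintype.card_subtype]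
  have h2 : ∑ b, ∑ a, ((s a b : ℤˣ) : ℤ) = Nat.card {b // ∀ a, s a b = 1} * Nat.card A := by
    have : ∀ b, ∑ a, ((s a b : ℤˣ) : ℤ) = if (∀ a, s a b = 1) then (Fintype.card A : ℤ) else 0 :=
      fun b => by
        rw [sum_units (fun a => s a b) (fun a a' => hl a a' b)]
    simp only [this]
    rw [Finset.sum_ite, Finset.sum_const_zero, add_zero, Finset.sum_const, nsmul_eq_mul,
      Nat.card_eq_fintype_card, Nat.card_eq_fintype_card, Fintype.card_subtype]
  rw [Finset.sum_comm, h2] at h1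
  have h3 : (Nat.card {a // ∀ b, s a b = 1} * Nat.card B : ℤ) =
      Nat.card A * Nat.card {b // ∀ a, s a b = 1} := by rw [← h1, mul_comm]
  exact_mod_cast h3

variable {G : Type u} [Group G]

/-- a maximal subgroup of an elementary abelian 2-group which avoids `d` has index 2 -/
theorem exists_two [Finite G] {R : Subgroup G} (hsq : ∀ r ∈ R, r ^ 2 = 1) (hc : R ≤ centralizer (R : Set G))
    (hne : R ≠ ⊥) : ∃ K : Subgroup G, ¬ R ≤ K ∧ ∀ a ∈ R, ∀ b ∈ R, (a * b ∈ K ↔ (a ∈ K ↔ b ∈ K)) := by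
  obtain ⟨⟨d, hd⟩, hd0⟩ := ne_bot_iff_exists_ne_one.1 hne
  have hd1 : d ≠ 1 := fun h => hd0 (Subtype.ext h)
  obtain ⟨K, hK, hmax⟩ := Set.exists_max_image {K : Subgroup G | K ≤ R ∧ d ∉ K} (fun K => Nat.card K)
    (Set.toFinite _) ⟨⊥, bot_le, fun h => hd1 (mem_bot.1 h)⟩
  obtain ⟨hKR, hdK⟩ := hK
  have hcm : ∀ a ∈ R, ∀ b ∈ R, a * b = b * a := fun a ha b hb => mem_centralizer_iff.1 (hc hb) a ha
  have hmul : ∀ a ∈ R, a * a = 1 := fun a ha => by have := hsq a ha; rwa [pow_two] at this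
  -- `a ∉ K ⟹ d a ∈ K`
  have key : ∀ a ∈ R, a ∉ K → d * a ∈ K := by
    intro a ha haK
    let K' : Subgroup G :=
      { carrier := {x | x ∈ K ∨ x * a ∈ K}
        one_mem' := Or.inl (one_mem _)
        mul_mem' := by
          rintro x y (hx | hx) (hy | hy)
          · exact Or.inl (mul_mem hx hy)
          · exact Or.inr (by rw [mul_assoc]; exact mul_mem hx hy)
          · right
            have hyR := hKR hy
            have e : x * y * a = x * a * y := by rw [mul_assoc, ← hcm a ha y hyR, ← mul_assoc]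
            rw [e]; exact mul_mem hx hy
          · left
            have h1 := mul_mem hx hy
            have hyR : y ∈ R := by
              have := R.mul_mem (hKR hy) (R.inv_mem ha)
              rwa [mul_inv_cancel_right] at this
            have e : x * a * (y * a) = x * y := by
              rw [← hcm a ha y hyR]
              calc x * a * (a * y) = x * (a * a) * y := by group
                _ = x * y := by rw [hmul a ha, mul_one]
            rwa [e] at h1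
        inv_mem' := by
          rintro x (hx | hx)
          · exact Or.inl (inv_mem hx)
          · right
            have hxR : x ∈ R := by
              have := R.mul_mem (hKR hx) (R.inv_mem ha)
              rwa [mul_inv_cancel_right] at this
            have e : x⁻¹ = x := inv_eq_of_mul_eq_one_left (hmul x hxR)
            rw [e]; exact hx }
    have hKK' : K ≤ K' := fun x hx => Or.inl hx
    have haK' : a ∈ K' := Or.inr (by rw [hmul a ha]; exact one_mem _)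
    have hK'R : K' ≤ R := by
      rintro x (hx | hx)
      · exact hKR hx
      · have := R.mul_mem (hKR hx) (R.inv_mem ha)
        rwa [mul_inv_cancel_right] at this
    have hdK' : d ∈ K' := by
      by_contra hcon
      have h1 := hmax K' ⟨hK'R, hcon⟩
      have h2 := eq_of_le_of_card_ge hKK' h1
      exact haK (h2 ▸ haK')
    exact hdK'.resolve_left hdK
  refine ⟨K, fun h => hdK (h hd), fun a ha b hb => ?_⟩
  constructor
  · intro hab
    constructor
    · intro haK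
      have := mul_mem (inv_mem haK) hab
      rwa [inv_mul_cancel_left] at this
    · intro hbK
      have := mul_mem hab (inv_mem hbK)
      rwa [mul_inv_cancel_right] at this
  · intro h
    by_cases haK : a ∈ K
    · exact mul_mem haK (h.1 haK)
    · have hbK : b ∉ K := fun hb' => haK (h.2 hb')
      have h1 := mul_mem (key a ha haK) (key b hb hbK)
      have e : d * a * (d * b) = a * b := by
        rw [hcm d hd a ha]
        calc a * d * (d * b) = a * (d * d) * b := by group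
          _ = a * b := by rw [hmul d hd, mul_one]
      rwa [e] at h1

/-- a pairing `A × B → R`, onto for every `a ∈ A - F` -/
theorem card_le [Finite G] {A B F C R : Subgroup G} (hFA : F ≤ A) (hCB : C ≤ B)
    (hsq : ∀ r ∈ R, r ^ 2 = 1) (hRc : R ≤ centralizer (R : Set G)) (hne : R ≠ ⊥)
    (hc : ∀ a ∈ A, ∀ b ∈ B, c a b ∈ R)
    (hl : ∀ a ∈ A, ∀ a' ∈ A, ∀ b ∈ B, c (a * a') b = c a b * c a' b)
    (hr : ∀ a ∈ A, ∀ b ∈ B, ∀ b' ∈ B, c a (b * b') = c a b * c a b')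
    (hs : ∀ a ∈ A, a ∉ F → ∀ r ∈ R, ∃ b ∈ B, c a b = r)
    (hC : ∀ a ∈ A, ∀ b ∈ C, c a b = 1) : F.relIndex A ≤ C.relIndex B := by
  classical
  obtain ⟨K, hRK, hK⟩ := exists_two hsq hRc hne
  let s : A → B → ℤˣ := fun a b => if c (a : G) (b : G) ∈ K then 1 else -1
  have hsg : ∀ x ∈ R, ∀ y ∈ R, (if x * y ∈ K then (1 : ℤˣ) else -1) =
      (if x ∈ K then 1 else -1) * (if y ∈ K then 1 else -1) := by
    intro x hx y hy
    have h1 := hK x hx y hy
    by_cases h2 : x ∈ K <;> by_cases h3 : y ∈ K <;> simp [h1, h2, h3]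
  have h1 := pairing_units s (fun a a' b => by
      change (if c ((a : G) * (a' : G)) (b : G) ∈ K then (1 : ℤˣ) else -1) = _
      rw [hl a a.2 a' a'.2 b b.2]
      exact hsg _ (hc a a.2 b b.2) _ (hc a' a'.2 b b.2))
    (fun a b b' => by
      change (if c (a : G) ((b : G) * (b' : G)) ∈ K then (1 : ℤˣ) else -1) = _
      rw [hr a a.2 b b.2 b' b'.2]
      exact hsg _ (hc a a.2 b b.2) _ (hc a a.2 b' b'.2))
  have h2 : Nat.card {a : A // ∀ b, s a b = 1} ≤ Nat.card F := by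
    refine Nat.card_le_card_of_injective (fun a => (⟨(a.1 : G), ?_⟩ : F)) ?_
    · by_contra hcon
      obtain ⟨r, hr1, hr2⟩ := SetLike.not_le_iff_exists.1 hRK
      obtain ⟨b, hb, hbr⟩ := hs a.1 a.1.2 hcon r hr1
      have h3 := a.2 ⟨b, hb⟩
      change (if c (a.1 : G) b ∈ K then (1 : ℤˣ) else -1) = 1 at h3
      rw [hbr, if_neg hr2] at h3
      exact absurd h3 (by decide)
    · intro a b hab
      exact Subtype.ext (Subtype.ext (congrArg (fun x : F => (x : G)) hab))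
  have h3 : Nat.card C ≤ Nat.card {b : B // ∀ a, s a b = 1} := by
    refine Nat.card_le_card_of_injective (fun x => ⟨⟨(x : G), hCB x.2⟩, fun a => ?_⟩) ?_
    · change (if c (a : G) (x : G) ∈ K then (1 : ℤˣ) else -1) = 1
      rw [hC a a.2 x x.2, if_pos (one_mem _)]
    · intro a b hab
      have := congrArg (fun x : {b : B // ∀ a, s a b = 1} => ((x : B) : G)) hab
      exact Subtype.ext this
  have h4 : Nat.card A * Nat.card C ≤ Nat.card F * Nat.card B :=
    calc Nat.card A * Nat.card C ≤ Nat.card A * Nat.card {b : B // ∀ a, s a b = 1} :=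
          Nat.mul_le_mul_left _ h3
      _ = Nat.card {a : A // ∀ b, s a b = 1} * Nat.card B := h1.symm
      _ ≤ Nat.card F * Nat.card B := Nat.mul_le_mul_right _ h2
  have e1 : Nat.card F * F.relIndex A = Nat.card A := by
    have := relIndex_mul_relIndex (⊥ : Subgroup G) F A bot_le hFA
    rwa [relIndex_bot_left, relIndex_bot_left] at this
  have e2 : Nat.card C * C.relIndex B = Nat.card B := by
    have := relIndex_mul_relIndex (⊥ : Subgroup G) C B bot_le hCB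
    rwa [relIndex_bot_left, relIndex_bot_left] at this
  rw [← e1, ← e2] at h4
  have hp : 0 < Nat.card F * Nat.card C := Nat.mul_pos Nat.card_pos Nat.card_pos
  refine Nat.le_of_mul_le_mul_left ?_ hp
  calc Nat.card F * Nat.card C * F.relIndex A = Nat.card F * F.relIndex A * Nat.card C := by ring
    _ ≤ Nat.card F * (Nat.card C * C.relIndex B) := h4
    _ = Nat.card F * Nat.card C * C.relIndex B := by ring

/-! ### the lines -/

section lines

variable {V F T X L Q0 V' F₁ : Subgroup G} (p : Pan V F T X L Q0) (hy : Flat.Hyp V' F₁)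
include p hy

omit hy in
/-- `V₁ ∩ F₁ = F` for a line `V₁` moved by `W` -/
theorem inf_F₁ (hWQ : WW V' F₁ ≤ Q0) (hVF : V ≤ F₁) {x : G} (hx : x ∈ X)
    (hm : ¬ WW V' F₁ ≤ normalizer ((cj x V : Subgroup G) : Set G)) : cj x V ⊓ F₁ = F := by
  apply le_antisymm
  · rintro v ⟨hv, hvF⟩
    obtain ⟨w, hw, hwn⟩ := SetLike.not_le_iff_exists.1 hm
    refine p.cent_le hx (p.Q0_X (hWQ hw)) hwn hv ?_
    exact mem_centralizer_iff.1 (Flat.Hyp.W_le_X hw) v hvF
  · exact le_inf (p.F_le_line hx) (p.F_le.trans hVF)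

variable [Finite G]

/-- an unmoved line is centralised by `W` -/
theorem cent_unmoved
    (hoff : ∀ E0 : Subgroup G, F₁ ≤ E0 → E0 ≤ EE V' F₁ →
      F₁.relIndex E0 ≤ (centralizer (E0 : Set G)).relIndex (WW V' F₁))
    (hWQ : WW V' F₁ ≤ Q0) (hUE : cl V X ≤ EE V' F₁) {x : G} (hx : x ∈ X)
    (hm : WW V' F₁ ≤ normalizer ((cj x V : Subgroup G) : Set G)) :
    WW V' F₁ ≤ centralizer ((cj x V : Subgroup G) : Set G) := by
  by_contra hcon
  have hE : cj x V ≤ EE V' F₁ := (cj_le_cl hx).trans hUE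
  have h1 := hy.off_of_le hoff hE
  obtain ⟨h2, h3⟩ := hy.elem_W (hE.trans inf_le_left)
  have h4 := (p.nff.cj x) (WW V' F₁) (p.isPGroup_T.to_le (hWQ.trans p.Q0_le)) hm
    (fun a ha => by rw [pow_two]; exact h3 a ha) (fun a ha b hb => h2 a ha b hb) hcon
  omega

/-- `N_W(V₁)` centralises a line `V₁` moved by `W` -/
theorem cent_moved (hWQ : WW V' F₁ ≤ Q0) (hVF : V ≤ F₁) (hUE : cl V X ≤ EE V' F₁) (ρ : Subgroup G)
    (key : ∀ r ∈ cl V X, r ∉ F₁ → ∀ d, d ∈ ρ ↔ ∃ s ∈ WW V' F₁, c r s = d) {x : G} (hx : x ∈ X)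
    (hm : ¬ WW V' F₁ ≤ normalizer ((cj x V : Subgroup G) : Set G)) :
    WW V' F₁ ⊓ normalizer ((cj x V : Subgroup G) : Set G) ≤ centralizer ((cj x V : Subgroup G) : Set G) := by
  by_contra hcon
  set V₁ := cj x V with hV₁
  set W₁ := WW V' F₁ ⊓ normalizer (V₁ : Set G) with hW₁
  have hVU : V₁ ≤ cl V X := cj_le_cl hx
  have hVE : V₁ ≤ EE V' F₁ := hVU.trans hUE
  have hVV : V₁ ≤ V' := hVE.trans inf_le_left
  have hinf : V₁ ⊓ F₁ = F := inf_F₁ p hWQ hVF hx hm
  have hFF : F ≤ F₁ := p.F_le.trans hVF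
  have hF₁V : F ≤ V₁ := p.F_le_line hx
  -- `[V₁, W₁] ≤ F`
  have hcF : ∀ r ∈ V₁, ∀ s ∈ W₁, c r s ∈ F := by
    intro r hr s hs
    rw [← hinf]
    refine ⟨?_, hy.comm_EW (hVE hr) hs.1⟩
    have h1 := (mem_normalizer_iff.1 hs.2 r⁻¹).1 (inv_mem hr)
    have e : c r s = r * (s * r⁻¹ * s⁻¹) := by rw [c_def]; group
    rw [e]
    exact V₁.mul_mem hr h1
  -- `[r, s] ∈ F ⟹ s ∈ W₁`
  have hW : ∀ r ∈ V₁, r ∉ F₁ → ∀ s ∈ WW V' F₁, c r s ∈ F → s ∈ W₁ := by
    intro r hr hrF s hs hcs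
    refine ⟨hs, ?_⟩
    by_contra hn
    have hsX : s ∈ X := p.Q0_X (hWQ hs)
    have h1 : cj (s * x) V ≠ cj x V := by
      intro h0
      rw [← cj_cj] at h0
      exact hn (mem_normalizer_iff_cj.2 h0)
    have h2 : s * r * s⁻¹ ∈ cj (s * x) V ⊓ cj x V := by
      refine ⟨?_, ?_⟩
      · change s * r * s⁻¹ ∈ cj (s * x) V
        rw [← cj_cj]
        exact mem_cj_self hr
      · have e : s * r * s⁻¹ = (c r s)⁻¹ * r := by rw [c_def]; group
        rw [e]
        exact V₁.mul_mem (inv_mem (hF₁V hcs)) hr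
    rw [p.line' (mul_mem hsX hx) hx h1] at h2
    have h3 := p.cj_F (inv_mem hsX)
    have h4 : r ∈ F := by
      rw [← h3, mem_cj, inv_inv]
      exact h2
    exact hrF (hFF h4)
  -- the group `ρ₀`
  have hk : ∀ r ∈ V₁, r ∉ F₁ → ∀ d ∈ ρ ⊓ F, ∃ s ∈ W₁, c r s = d := by
    intro r hr hrF d hd
    obtain ⟨s, hs, hsd⟩ := (key r (hVU hr) hrF d).1 hd.1
    exact ⟨s, hW r hr hrF s hs (by rw [hsd]; exact hd.2), hsd⟩
  have hk' : ∀ r ∈ V₁, ∀ s ∈ W₁, c r s ∈ ρ ⊓ F := by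
    intro r hr s hs
    by_cases hrF : r ∈ F₁
    · rw [Flat.Hyp.c_F hrF hs.1]; exact one_mem _
    · exact ⟨(key r (hVU hr) hrF _).2 ⟨s, hs.1, rfl⟩, hcF r hr s hs⟩
  have hne : ρ ⊓ F ≠ ⊥ := by
    intro h0
    apply hcon
    intro s hs
    rw [mem_centralizer_iff]
    intro r hr
    have h1 := hk' r hr s hs
    rw [h0, mem_bot, c_def, mul_inv_eq_one, mul_inv_eq_iff_eq_mul] at h1
    exact h1
  have h5 := card_le (A := V₁) (B := W₁) (F := F) (C := W₁ ⊓ centralizer (V₁ : Set G)) (R := ρ ⊓ F) hF₁V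
    inf_le_left (fun r hr => p.sq r (p.F_le hr.2))
    (fun a ha => by
      have h1 := p.comm (p.F_le ha.2)
      exact centralizer_le (fun b hb => p.F_le hb.2) h1) hne hk'
    (fun a ha a' ha' b hb => hy.c_mul_left (hVV ha) (hVV ha') hb.1)
    (fun a ha b hb b' hb' => by
      rw [hy.c_mul_right (hVV ha) hb.1 hb'.1, Flat.Hyp.c_F (hFF (hcF a ha b' hb')) hb.1, mul_one])
    (fun a ha haF => hk a ha fun h => haF (by rw [← hinf]; exact ⟨ha, h⟩))
    (fun a ha b hb => by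
      rw [c_def, mem_centralizer_iff.1 hb.2 a ha, mul_inv_cancel_right, mul_inv_cancel])
  obtain ⟨h2, h3⟩ := hy.elem_W hVV
  have h4 := (p.nff.cj x) W₁ (p.isPGroup_T.to_le (inf_le_left.trans (hWQ.trans p.Q0_le))) inf_le_right
    (fun a ha => by rw [pow_two]; exact h3 a ha.1) (fun a ha b hb => h2 a ha.1 b hb.1) hcon
  have h6 : (centralizer (W₁ : Set G)).relIndex V₁ ≤ F.relIndex V₁ := by
    refine relIndex_le_of_le_left ?_ index_ne_zero_of_finite
    refine cent_symm ?_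
    exact (inf_le_left.trans Flat.Hyp.W_le_X).trans (centralizer_le hFF)
  rw [inf_relIndex_left] at h5
  have h7 : (centralizer (V₁ : Set G)).relIndex W₁ < (centralizer (W₁ : Set G)).relIndex V₁ := h4
  exact absurd (h7.trans_le (h6.trans h5)) (lt_irrefl _)

/-- **(7)** -/
theorem end_aux (hX : NoOv X) (h2 : Two V X)
    (hoff : ∀ E0 : Subgroup G, F₁ ≤ E0 → E0 ≤ EE V' F₁ →
      F₁.relIndex E0 ≤ (centralizer (E0 : Set G)).relIndex (WW V' F₁))
    (hWQ : WW V' F₁ ≤ Q0) (hWX : ¬ WW V' F₁ ≤ o2 X) (hVF : V ≤ F₁) (hUE : cl V X ≤ EE V' F₁)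
    (ρ : Subgroup G) (key : ∀ r ∈ cl V X, r ∉ F₁ → ∀ d, d ∈ ρ ↔ ∃ s ∈ WW V' F₁, c r s = d) : False := by
  set W := WW V' F₁ with hW
  have hWX' : W ≤ X := hWQ.trans p.Q0_X
  have hWP : IsPGroup 2 W := p.isPGroup_T.to_le (hWQ.trans p.Q0_le)
  -- `W ∩ Q` centralises `U`
  have h1 : W ⊓ o2 X ≤ centralizer (cl V X : Set G) := by
    refine cent_symm (cl_le fun x hx => cent_symm ?_)
    by_cases hm : W ≤ normalizer ((cj x V : Subgroup G) : Set G)
    · exact inf_le_left.trans (cent_unmoved p hy hoff hWQ hUE hx hm)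
    · refine le_trans (inf_le_inf_left _ ?_) (cent_moved p hy hWQ hVF hUE ρ key hx hm)
      exact p.o2_norm_line hx
  have h3 : (centralizer (cl V X : Set G)).relIndex W ≤ (o2 X).relIndex W := by
    rw [← inf_relIndex_left W (o2 X)]
    exact relIndex_le_of_le_left h1 index_ne_zero_of_finite
  have h4 := hy.off_of_le hoff hUE
  -- `W ∩ C(U) ≤ Q`
  have h5 : W ⊓ centralizer (cl V X : Set G) ≤ o2 X :=
    p.le_o2_of_cent_U (hWP.to_le inf_le_left) (inf_le_left.trans hWX') inf_le_right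
  obtain ⟨h6, h7⟩ := hy.elem_W (hUE.trans inf_le_left)
  obtain ⟨N, hN, hXN, hE, hE'⟩ := h2
  have h8 := hX.two hN p.U_le_X p.U_sq p.U_comm hXN (le_normalizer_cl V X) hE hE' hWX'
    (fun a ha => by
      rw [pow_two]
      exact h5 ⟨mul_mem ha ha, h7 a ha⟩)
    (fun a ha b hb => h5 ⟨W.mul_mem (W.mul_mem (W.mul_mem ha hb) (W.inv_mem ha)) (W.inv_mem hb), h6 a ha b hb⟩)
  have h9 : (o2 X).relIndex W ≠ 0 := index_ne_zero_of_finite
  have h10 : (o2 X).relIndex W ≠ 1 := fun h0 => hWX (relIndex_eq_one.1 h0)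
  have h11 : (o2 X).relIndex W * (o2 X).relIndex W ≤ (o2 X).relIndex W * 1 := by
    rw [mul_one]
    exact h8.trans (h4.trans h3)
  have h12 := Nat.le_of_mul_le_mul_left h11 (Nat.pos_of_ne_zero h9)
  omega

end lines

/-- **(7)**: the end of THEOREM BETA2 -/
theorem end_ [Finite G] {V F T X L Q0 V' F₁ : Subgroup G} (p : Pan V F T X L Q0) (hX : NoOv X) (h2 : Two V X)
    (hy : Flat.Hyp V' F₁)
    (hoff : ∀ E0 : Subgroup G, F₁ ≤ E0 → E0 ≤ EE V' F₁ →
      F₁.relIndex E0 ≤ (centralizer (E0 : Set G)).relIndex (WW V' F₁))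
    (hWQ : WW V' F₁ ≤ Q0) (hWX : ¬ WW V' F₁ ≤ o2 X) (hVF : V ≤ F₁) (hUE : cl V X ≤ EE V' F₁)
    (ρ : Subgroup G) (key : ∀ r ∈ cl V X, r ∉ F₁ → ∀ d, d ∈ ρ ↔ ∃ s ∈ WW V' F₁, c r s = d) : False :=
  end_aux p hy hX h2 hoff hWQ hWX hVF hUE ρ key

end Cfsg.Agent.Omega.NO3b.BetaTwo

end
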