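import Cfsg.Agent.Mrg.Omega.NO3b.BetaTwo.Def
import Cfsg.Agent.Mrg.Omega.NO3b.BetaTwo.Plug
import Cfsg.Agent.Mrg.Omega.NO3b.BetaTwo.NoOver
import Cfsg.Agent.Mrg.Omega.NO3b.Exit.AllLocal
import Cfsg.Agent.Mrg.Omega.NOThreeL.NF.Final
import Cfsg.Agent.Mrg.Omega.NO3b.Exit.Bridge
import Cfsg.Agent.Mrg.Omega.NO3b.BasePt.LocStage
import Cfsg.Agent.Mrg.Omega.NO3b.Exit.TenSplit
import Cfsg.Agent.Mrg.Omega.NO3b.TheoremL.Core2
import Cfsg.Agent.Mrg.Omega.NO3b.Chain.Group

section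


/-!
# THEOREM BETA2 for a family of panels (helper506, bb #21336 (A)): the frame at a member of the chain

`Stage S L`, `(F i, T i, X i)` panels of `V = VL S L` over `Z`, `J = ⟨ML S L, X i⟩` 2-local (`JJ`), `V_J = zl S J` not FF
and not in `O₂(C_G(Z))`: `exists_btF`.
-/

set_option autoImplicit false

namespace Cfsg.Agent.Omega.NO3b.BetaTwo

open Subgroup Cfsg
open Cfsg.Agent.ZN (o2 zc zl)
open Cfsg.Agent.ZN.ChoiceBase hiding mem_zc
open Cfsg.Agent.ZN.ChoiceSit (o2_le_syl)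
open Cfsg.Agent.Omega.NO3b.EZero (NotFF Par cent_symm cj_cent cl le_cl cj_le_cl cl_le le_normalizer_cl)
open Cfsg.Agent.Omega.NO3b.Alpha (Fl)
open Cfsg.Agent.Omega.NO3b.Wc
open Cfsg.Agent.Omega.NO3b.Exit
open Cfsg.Agent.Omega.NO3b.Chain
open Cfsg.Agent.Omega.NO3b.K0.Mix (Pan SM Two)
open Cfsg.Agent.Omega.NOne.Flat (EE WW NN)
open Cfsg.Agent.Omega.NOne.NearFF (c)
open Cfsg.Agent.MinSimple.VModule (zc_le_zl le_normalizer_zl zl_le le_normalizer_o2 le_o2 mem_normalizer_of_map_le)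

universe u v

variable {G : Type u} [Group G]

/-- `J = ⟨M(L), X i⟩` -/
def JJ {ι : Type v} (S L : Subgroup G) (X : ι → Subgroup G) : Subgroup G := ML S L ⊔ ⨆ i, X i

variable [Finite G] {S : Sylow 2 G} {L : Subgroup G} {ι : Type v} {F T X : ι → Subgroup G}

section

variable (h : Stage S L) (hc : IsCharacteristicTwoType G) (hne : zc (S : Subgroup G) ≠ ⊥)
  (f : ∀ i, Fl S (VL (S : Subgroup G) L) (F i) (T i))
  (p : ∀ i, Par (VL (S : Subgroup G) L) (F i) (T i) (X i)) (h2 : ∀ i, Two (VL (S : Subgroup G) L) (X i))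
  (hloc : ∃ R : Subgroup G, R ≠ ⊥ ∧ IsPGroup 2 R ∧ JJ (S : Subgroup G) L X ≤ normalizer (R : Set G))
include h hc hne f p h2 hloc

theorem exists_btF (hn : NotFF (zl (S : Subgroup G) (JJ (S : Subgroup G) L X)))
    (hV : ¬ zl (S : Subgroup G) (JJ (S : Subgroup G) L X) ≤ o2 (centralizer (zc (S : Subgroup G) : Set G))) :
    ∃ F₁ : Subgroup G, BtF (VL (S : Subgroup G) L) F T X
      (normalizer (((S : Subgroup G) ⊓ centralizer (VL (S : Subgroup G) L : Set G) : Subgroup G) : Set G))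
      ((S : Subgroup G) ⊓ centralizer (VL (S : Subgroup G) L : Set G))
      (VL (S : Subgroup G) (LH (S : Subgroup G) (JJ (S : Subgroup G) L X))) F₁ ∧
      ¬ cl (VL (S : Subgroup G) L) (JJ (S : Subgroup G) L X) ≤
        EE (VL (S : Subgroup G) (LH (S : Subgroup G) (JJ (S : Subgroup G) L X))) F₁ ∧
      cl (VL (S : Subgroup G) L) (JJ (S : Subgroup G) L X) ≤
        VL (S : Subgroup G) (LH (S : Subgroup G) (JJ (S : Subgroup G) L X)) := by
  set V := VL (S : Subgroup G) L with hVd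
  set J := JJ (S : Subgroup G) L X with hJ
  set V' := VL (S : Subgroup G) (LH (S : Subgroup G) J) with hV'
  set B := WH (S : Subgroup G) L with hBd
  have a := h.adm hc hne
  have l := h.lines hc hne
  have hOff := Final.stmtOff G
  obtain ⟨R, hR, hR2, hJR⟩ := hloc
  have hMJ : ML (S : Subgroup G) L ≤ J := le_sup_left
  have hXJ : ∀ i, X i ≤ J := fun i => (le_iSup X i).trans le_sup_right
  have hSJ : (S : Subgroup G) ≤ J := h.S_le.trans hMJ
  have char2 : J ⊓ centralizer (o2 J : Set G) ≤ o2 J := char2_of_loc hc hSJ hR2 hR hJR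
  have pn : ∀ i, Pan V (F i) (T i) (X i)
      (normalizer (((S : Subgroup G) ⊓ centralizer (V : Set G) : Subgroup G) : Set G))
      ((S : Subgroup G) ⊓ centralizer (V : Set G)) := fun i =>
    pan (f i) l (p i) fun g hg => Alpha.ti hc l g hg
  have hBT : ∀ i, B ≤ T i := fun i => by
    have hQ := (f i).Q0_le
    rwa [h.toRoot.cs_V] at hQ
  have root : Root S (LH (S : Subgroup G) J) := root_LH hSJ char2 hn
  have hle : zl (S : Subgroup G) J ≤ V' := by
    have h1 := root.zl_le_V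
    rwa [zl_LH hSJ] at h1
  have hVJ : V ≤ zl (S : Subgroup G) J := NOThreeL.Star.zl_mono _ hMJ
  have hVH : cl V J ≤ zl (S : Subgroup G) J := by
    refine cl_le fun x hx => ?_
    have h1 := cj_mono x hVJ
    rwa [cj_eq_of_mem_normalizer (le_normalizer_zl _ _ hx)] at h1
  have hHV : zl (S : Subgroup G) J ≤ cl V J :=
    zl_le (l.ZV.trans (le_cl _ _)) (le_normalizer_cl V J)
  have hUH : ∀ i, cl V (X i) ≤ zl (S : Subgroup G) J := fun i => cl_le fun x hx =>
    (cj_le_cl (V := V) (hXJ i hx)).trans hVH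
  -- `W_F ≤ S` implies `W_F ≤ B`
  have hWB : ∀ F, MaxBad V' F → WW V' F ≤ (S : Subgroup G) → WW V' F ≤ B := by
    intro F hF hFS
    refine le_trans (le_inf hFS ?_) a.cs.le
    by_contra hne
    have hoff := off_of hc hOff root hF hFS (hVJ.trans hle) a.low hne
    have h3 := a.nff _ (WW_pgroup _ _) (hFS.trans a.lines.S_le) hoff.sq hoff.comm hne
    exact absurd (FFThm.relIndex_le_iff.1 hoff.le) (not_le.2 h3)
  have hWHle : WH (S : Subgroup G) (LH (S : Subgroup G) J) ≤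
      (S : Subgroup G) ⊓ centralizer (zl (S : Subgroup G) J : Set G) := by
    have h1 := WH_le (S : Subgroup G) (LH (S : Subgroup G) J)
    unfold QL at h1
    rwa [zl_LH hSJ] at h1
  have hWHB : WH (S : Subgroup G) (LH (S : Subgroup G) J) ≤ B :=
    (hWHle.trans (inf_le_inf_left _ (centralizer_le hVJ))).trans a.cs.le
  obtain ⟨F0, hF0, hS0, hne0⟩ := exists_WW hc (S_ne hne) root (fun h0 => hV (hle.trans h0))
  rw [zl_LH hSJ] at hne0
  set Fam : Set (Subgroup G) := {D | D = WH (S : Subgroup G) (LH (S : Subgroup G) J) ∨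
      ∃ F, MaxBad V' F ∧ WW V' F = D ∧ WW V' F ≤ (S : Subgroup G)} with hFam
  have hFamB : ∀ D ∈ Fam, D ≤ B := by
    rintro D (rfl | ⟨F, hF, rfl, hFS⟩)
    · exact hWHB
    · exact hWB F hF hFS
  have hcl : ∀ g ∈ J, (∀ D ∈ Fam, cj g D ≤ (S : Subgroup G)) → ∀ D ∈ Fam, cj g D ≤ sSup Fam := by
    intro g hg hgS
    have hgM : g ∈ ML (S : Subgroup G) (LH (S : Subgroup G) J) := mem_ML_of_le (hgS _ (Or.inl rfl))
    rintro D (rfl | ⟨F, hF, rfl, hFS⟩)
    · rw [cj_eq_of_mem_normalizer hgM]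
      exact le_sSup (Or.inl rfl)
    · have h1 := WW_cj (F := F) (ML_le_norm_V _ _ hgM)
      have h3 := hgS _ (Or.inr ⟨F, hF, rfl, hFS⟩)
      rw [← h1] at h3 ⊢
      exact le_sSup (Or.inr ⟨cj g F, hF.cj (ML_le_norm_V _ _ hgM), rfl, h3⟩)
  have hex : ∃ i, ∃ D ∈ Fam, ¬ D ≤ o2 (X i) := by
    by_contra hcon
    push Not at hcon
    have hKB : sSup Fam ≤ B := sSup_le hFamB
    have hKS : sSup Fam ≤ (S : Subgroup G) := hKB.trans a.wc.le
    have hcl' : ∀ g ∈ J, cj g (sSup Fam) ≤ (S : Subgroup G) → cj g (sSup Fam) ≤ sSup Fam := by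
      intro g hg hgS
      rw [cj_sSup]
      exact iSup_le fun D => hcl g hg (fun D hD => (cj_mono g (le_sSup hD)).trans hgS) D D.2
    have hcore : sSup Fam ≤ o2 J := by
      refine le_o2 (hKS.trans hSJ) (S.isPGroup'.to_le hKS) (sup_le ?_ (iSup_le fun i => ?_))
      · intro m hm
        refine mem_normalizer_of_map_le (hcl' m (hMJ hm) ?_)
        have h1 := cj_mono m hKB
        rw [cj_eq_of_mem_normalizer (show m ∈ normalizer (B : Set G) from hm)] at h1
        exact h1.trans a.wc.le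
      · intro x hx
        refine mem_normalizer_of_map_le (hcl' x (hXJ i hx) ?_)
        have h1 := cj_mono x (sSup_le (hcon i) : sSup Fam ≤ o2 (X i))
        rw [cj_eq_of_mem_normalizer (le_normalizer_o2 _ hx)] at h1
        exact h1.trans ((o2_le_syl ((f i).sylX (p i))).trans (f i).T_le)
    exact hne0 (((le_sSup (a := WW V' F0) (Or.inr ⟨F0, hF0, rfl, hS0⟩)).trans hcore).trans (o2_cent hSJ char2))
  obtain ⟨i, D, hD, hDX⟩ := hex
  have hcen : ∀ D, D ≤ B → D ≤ centralizer (zl (S : Subgroup G) J : Set G) → D ≤ o2 (X i) := fun D hDB hDc =>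
    (pn i).le_o2_of_cent_U (S.isPGroup'.to_le (hDB.trans a.wc.le)) ((hDB.trans (hBT i)).trans (p i).T_le)
      (hDc.trans (centralizer_le (hUH i)))
  rcases hD with rfl | ⟨F₁, hF₁, rfl, hFS⟩
  · exact absurd (hcen _ hWHB (hWHle.trans inf_le_right)) hDX
  have hWB₁ := hWB F₁ hF₁ hFS
  have hy : NOne.Flat.Hyp V' F₁ := hyp_of hc root hF₁
  refine ⟨F₁, ?_, fun h0 => ?_, hVH.trans hle⟩
  · exact
      { pan := pn
        noov := fun i => K0.noOv FFBr.aStmt ((f i).sylX (p i)) ((f i).isMinPar l (p i))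
        sm := fun i => sm l hc (pn i)
        two := h2
        hno := fun i => noOver_of (Bridge.Sit.of_fl hc l (f i) (p i) (pn i).U_comm (pn i).U_sq (le_cl _ _)
          (le_normalizer_cl _ _))
        hy := hy
        hoff := hOff _ _ hy
        good := good_cj h hc
        WQ := by
          rw [h.toRoot.cs_V]
          exact hWB₁
        WX := ⟨i, hDX⟩
        UV := fun i => (hUH i).trans hle }
  · -- `W` centralises `V_J`
    have h1 : zl (S : Subgroup G) J ≤ EE V' F₁ := hHV.trans h0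
    have h3 := hy.off_of_le (hOff _ _ hy) h1
    have hW2 : IsPGroup 2 (WW V' F₁) := WW_pgroup _ _
    have hWH : WW V' F₁ ≤ normalizer (zl (S : Subgroup G) J : Set G) :=
      ((hWB₁.trans a.wc.le).trans hSJ).trans (le_normalizer_zl _ _)
    obtain ⟨e1, e2⟩ := hy.elem_W hle
    by_cases hcen' : WW V' F₁ ≤ centralizer (zl (S : Subgroup G) J : Set G)
    · exact hDX (hcen _ hWB₁ hcen')
    · have h4 := hn (WW V' F₁) hW2 hWH (fun s hs => by rw [pow_two]; exact e2 s hs)
        (fun s hs t ht => e1 s hs t ht) hcen'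
      exact absurd h3 (not_le.2 h4)

end

end Cfsg.Agent.Omega.NO3b.BetaTwo

end

section


/-!
# THEOREM BETA2 for a family of panels (helper506, bb #21336 (A)): the frame for an admissible `B`

`Adm S L B`, `V = VB S B`, `(F i, T i, X i)` panels of `V` with two noncentral factors, `J = JB B X = ⟨N_G(B), X i⟩`
2-local, `V_J = zl S J` not FF, `V'_J = VL S (LH S J)`:

* `good_adm` : `V ≤ O₂(C_G(D))` for `1 ≠ D ≤ V` (from TI);
* `exists_btF_adm` : `V'_J ≰ O₂(C_G(Z))` gives the frame `BtF`;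
* `closed_adm` : `V'_J ≤ O₂(C_G(Z))` gives an admissible `B' < B`.
-/

set_option autoImplicit false
set_option linter.unusedSectionVars false

namespace Cfsg.Agent.Omega.NO3b.BetaTwo

open Subgroup Cfsg
open Cfsg.Agent.ZN (o2 zc zl)
open Cfsg.Agent.ZN.ChoiceBase hiding mem_zc
open Cfsg.Agent.ZN.ChoiceSit (o2_le_syl)
open Cfsg.Agent.Omega.NO3b.EZero (NotFF Par cent_symm cj_cent cl le_cl cj_le_cl cl_le le_normalizer_cl)
open Cfsg.Agent.Omega.NO3b.Alpha (Fl)
open Cfsg.Agent.Omega.NO3b.Wc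
open Cfsg.Agent.Omega.NO3b.Exit
open Cfsg.Agent.Omega.NO3b.Chain
open Cfsg.Agent.Omega.NO3b.K0.Mix (Pan SM Two)
open Cfsg.Agent.Omega.NOne.Flat (EE WW NN)
open Cfsg.Agent.Omega.NOne.NearFF (c)
open Cfsg.Agent.MinSimple.VModule (zc_le_zl le_normalizer_zl zl_le le_normalizer_o2 le_o2 mem_normalizer_of_map_le)

universe u v

variable {G : Type u} [Group G]

/-- `J = ⟨N_G(B), X i⟩` -/
def JB {ι : Type v} (B : Subgroup G) (X : ι → Subgroup G) : Subgroup G := normalizer (B : Set G) ⊔ ⨆ i, X i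

variable [Finite G] {S : Sylow 2 G} {L B : Subgroup G} {ι : Type v} {F T X : ι → Subgroup G}

/-- `V ≤ O₂(C_G(D))` for `1 ≠ D ≤ V` -/
theorem good_adm (a : Adm S L B) (hc : IsCharacteristicTwoType G) {D : Subgroup G}
    (hD : D ≤ VB (S : Subgroup G) B) (hD1 : D ≠ ⊥) : VB (S : Subgroup G) B ≤ o2 (centralizer (D : Set G)) := by
  set V := VB (S : Subgroup G) B with hV
  have l := a.lines
  have hVD : ∀ y ∈ centralizer (D : Set G), D ≤ cj y V := by
    intro y hy d hd
    have h1 := mem_centralizer_iff.1 hy d hd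
    rw [mem_cj, mul_assoc, h1, inv_mul_cancel_left]
    exact hD hd
  have hcm : ∀ y ∈ centralizer (D : Set G), ∀ z ∈ centralizer (D : Set G),
      cj y V ≤ centralizer ((cj z V : Subgroup G) : Set G) := by
    intro y hy z hz
    have h1 := Alpha.ti hc l (y⁻¹ * z) (by
      intro h0
      apply hD1
      rw [← le_bot_iff, ← h0]
      exact le_inf hD (hVD _ (mul_mem (inv_mem hy) hz)))
    have h2 := cj_cent (g := y) h1
    rwa [cj_cj, mul_inv_cancel_left] at h2
  have hUc : cl V (centralizer (D : Set G)) ≤ centralizer (cl V (centralizer (D : Set G)) : Set G) :=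
    cl_le fun _ hy => cent_symm (cl_le fun _ hz => hcm _ hz _ hy)
  have hsq : ∀ u ∈ cl V (centralizer (D : Set G)), u ^ 2 = 1 := by
    refine EZero.sq_of_comm hUc (fun i : centralizer (D : Set G) => cj_le_cl i.2) le_rfl fun i v hv => ?_
    have h1 := l.sq _ (mem_cj.1 hv)
    have e : v ^ 2 = i * ((i : G)⁻¹ * v * i) ^ 2 * (i : G)⁻¹ := by rw [pow_two, pow_two]; group
    rw [e, h1]; group
  have hle : cl V (centralizer (D : Set G)) ≤ centralizer (D : Set G) := by
    refine cl_le fun y hy => ?_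
    have h1 : V ≤ centralizer (D : Set G) := l.comm.trans (centralizer_le hD)
    have h2 := cj_mono y h1
    rwa [K0.cj_self hy] at h2
  exact (le_cl V _).trans (le_o2 hle (NoEmp.pgroup_of_sq hsq) (le_normalizer_cl _ _))

theorem good_adm_cj (a : Adm S L B) (hc : IsCharacteristicTwoType G) (g : G) (D : Subgroup G)
    (hD : D ≤ cj g (VB (S : Subgroup G) B)) (hD1 : D ≠ ⊥) :
    cj g (VB (S : Subgroup G) B) ≤ o2 (centralizer (D : Set G)) := by
  have h1 := good_adm a hc (D := cj g⁻¹ D) (by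
    have h1 := cj_mono g⁻¹ hD
    rwa [cj_inv_cj] at h1) (fun h0 => hD1 (by
    have h1 := congrArg (cj g) h0
    rwa [cj_cj_inv, K0.cj_bot'] at h1))
  have h2 := cj_mono g h1
  rwa [← Cfsg.Agent.ZN.ChoiceBase.pCore_cj, cj_centralizer, cj_cj_inv] at h2

section

variable (a : Adm S L B) (hc : IsCharacteristicTwoType G)
  (f : ∀ i, Fl S (VB (S : Subgroup G) B) (F i) (T i))
  (p : ∀ i, Par (VB (S : Subgroup G) B) (F i) (T i) (X i))
  (hloc : ∃ R : Subgroup G, R ≠ ⊥ ∧ IsPGroup 2 R ∧ JB B X ≤ normalizer (R : Set G))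
include a hc hloc

omit [Finite G] a hc hloc in
theorem NB_le_JB [Finite G] : normalizer (B : Set G) ≤ JB B X := le_sup_left

omit [Finite G] a hc hloc in
theorem X_le_JB [Finite G] (i : ι) : X i ≤ JB B X := (le_iSup X i).trans le_sup_right

omit hc hloc in
theorem S_le_JB : (S : Subgroup G) ≤ JB B X := (wc_S_le a.wc).trans NB_le_JB

theorem char2_JB : JB B X ⊓ centralizer (o2 (JB B X) : Set G) ≤ o2 (JB B X) := by
  obtain ⟨R, hR, hR2, hJR⟩ := hloc
  exact char2_of_loc hc (S_le_JB a) hR2 hR hJR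

omit hc hloc in
theorem V_le_JB : VB (S : Subgroup G) B ≤ zl (S : Subgroup G) (JB B X) := NOThreeL.Star.zl_mono _ NB_le_JB

omit hc hloc in
theorem cl_le_JB : cl (VB (S : Subgroup G) B) (JB B X) ≤ zl (S : Subgroup G) (JB B X) := by
  refine cl_le fun x hx => ?_
  have h1 := cj_mono x (V_le_JB a (X := X))
  rwa [cj_eq_of_mem_normalizer (le_normalizer_zl _ _ hx)] at h1

theorem zl_le_V'_JB (hn : NotFF (zl (S : Subgroup G) (JB B X))) :
    zl (S : Subgroup G) (JB B X) ≤ VL (S : Subgroup G) (LH (S : Subgroup G) (JB B X)) := by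
  have h1 := (root_LH (S_le_JB a) (char2_JB a hc hloc) hn).zl_le_V
  rwa [zl_LH (S_le_JB a)] at h1

omit hc hloc in
theorem WH_le_JB : WH (S : Subgroup G) (LH (S : Subgroup G) (JB B X)) ≤
    (S : Subgroup G) ⊓ centralizer (zl (S : Subgroup G) (JB B X) : Set G) := by
  have h1 := WH_le (S : Subgroup G) (LH (S : Subgroup G) (JB B X))
  unfold QL at h1
  rwa [zl_LH (S_le_JB a)] at h1

omit hc hloc in
theorem WH_le_B_JB : WH (S : Subgroup G) (LH (S : Subgroup G) (JB B X)) ≤ B :=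
  ((WH_le_JB a).trans (inf_le_inf_left _ (centralizer_le (V_le_JB a)))).trans a.cs.le

include f p

/-- `V'_J ≤ O₂(C_G(Z))`: a smaller admissible subgroup. -/
theorem closed_adm [hι : Nonempty ι] (hn : NotFF (zl (S : Subgroup G) (JB B X)))
    (hV : VL (S : Subgroup G) (LH (S : Subgroup G) (JB B X)) ≤ o2 (centralizer (zc (S : Subgroup G) : Set G))) :
    Adm S L (WH (S : Subgroup G) (LH (S : Subgroup G) (JB B X))) ∧
      WH (S : Subgroup G) (LH (S : Subgroup G) (JB B X)) ≤ B ∧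
      WH (S : Subgroup G) (LH (S : Subgroup G) (JB B X)) ≠ B := by
  have h := root_LH (S_le_JB a) (char2_JB a hc hloc) hn
  have h1 := Adm.of_root h hV
  refine ⟨⟨h1.wc, (WH_le_B_JB a).trans a.le, h1.cs, h1.comm, h1.sq, h1.nff, h1.low⟩, WH_le_B_JB a, fun h0 => ?_⟩
  obtain ⟨i⟩ := hι
  apply (p i).nle
  have h2 : zl (S : Subgroup G) (JB B X) ≤ VB (S : Subgroup G) B := by
    have h3 := zl_le_V'_JB a hc hloc hn
    have h4 : VL (S : Subgroup G) (LH (S : Subgroup G) (JB B X)) =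
        VB (S : Subgroup G) (WH (S : Subgroup G) (LH (S : Subgroup G) (JB B X))) := rfl
    rwa [h4, h0] at h3
  have h3 : zl (S : Subgroup G) (JB B X) = VB (S : Subgroup G) B := le_antisymm h2 (V_le_JB a)
  have h4 := (X_le_JB (B := B) (X := X) i).trans (le_normalizer_zl (S : Subgroup G) (JB B X))
  rwa [h3] at h4

theorem exists_btF_adm (h2 : ∀ i, Two (VB (S : Subgroup G) B) (X i)) (hSne : (S : Subgroup G) ≠ ⊥)
    (hn : NotFF (zl (S : Subgroup G) (JB B X)))
    (hV : ¬ VL (S : Subgroup G) (LH (S : Subgroup G) (JB B X)) ≤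
      o2 (centralizer (zc (S : Subgroup G) : Set G))) :
    ∃ F₁ : Subgroup G, BtF (VB (S : Subgroup G) B) F T X (normalizer (B : Set G)) B
      (VL (S : Subgroup G) (LH (S : Subgroup G) (JB B X))) F₁ ∧
      ¬ cl (VB (S : Subgroup G) B) (JB B X) ≤
        EE (VL (S : Subgroup G) (LH (S : Subgroup G) (JB B X))) F₁ ∧
      cl (VB (S : Subgroup G) B) (JB B X) ≤ VL (S : Subgroup G) (LH (S : Subgroup G) (JB B X)) := by
  set V := VB (S : Subgroup G) B with hVd
  set J := JB B X with hJ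
  set V' := VL (S : Subgroup G) (LH (S : Subgroup G) J) with hV'
  have l := a.lines
  have hOff := Final.stmtOff G
  have hMJ : normalizer (B : Set G) ≤ J := NB_le_JB
  have hXJ : ∀ i, X i ≤ J := X_le_JB
  have hSJ : (S : Subgroup G) ≤ J := S_le_JB a
  have char2 : J ⊓ centralizer (o2 J : Set G) ≤ o2 J := char2_JB a hc hloc
  have pn : ∀ i, Pan V (F i) (T i) (X i) (normalizer (B : Set G)) B := fun i => by
    have h1 := pan (f i) l (p i) fun g hg => Alpha.ti hc l g hg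
    rwa [a.cs] at h1
  have hBT : ∀ i, B ≤ T i := fun i => by
    have hQ := (f i).Q0_le
    rwa [a.cs] at hQ
  have root : Root S (LH (S : Subgroup G) J) := root_LH hSJ char2 hn
  have hle : zl (S : Subgroup G) J ≤ V' := zl_le_V'_JB a hc hloc hn
  have hVJ : V ≤ zl (S : Subgroup G) J := V_le_JB a
  have hVH : cl V J ≤ zl (S : Subgroup G) J := cl_le_JB a
  have hHV : zl (S : Subgroup G) J ≤ cl V J :=
    zl_le (l.ZV.trans (le_cl _ _)) (le_normalizer_cl V J)
  have hUH : ∀ i, cl V (X i) ≤ zl (S : Subgroup G) J := fun i => cl_le fun x hx =>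
    (cj_le_cl (V := V) (hXJ i hx)).trans hVH
  -- `W_F ≤ S` implies `W_F ≤ B`
  have hWB : ∀ F, MaxBad V' F → WW V' F ≤ (S : Subgroup G) → WW V' F ≤ B := by
    intro F hF hFS
    refine le_trans (le_inf hFS ?_) a.cs.le
    by_contra hne
    have hoff := off_of hc hOff root hF hFS (hVJ.trans hle) a.low hne
    have h3 := a.nff _ (WW_pgroup _ _) (hFS.trans a.lines.S_le) hoff.sq hoff.comm hne
    exact absurd (FFThm.relIndex_le_iff.1 hoff.le) (not_le.2 h3)
  have hWHle := WH_le_JB a (X := X)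
  have hWHB := WH_le_B_JB a (X := X)
  obtain ⟨F0, hF0, hS0, hne0⟩ := exists_WW hc hSne root hV
  rw [zl_LH hSJ] at hne0
  set Fam : Set (Subgroup G) := {D | D = WH (S : Subgroup G) (LH (S : Subgroup G) J) ∨
      ∃ F, MaxBad V' F ∧ WW V' F = D ∧ WW V' F ≤ (S : Subgroup G)} with hFam
  have hFamB : ∀ D ∈ Fam, D ≤ B := by
    rintro D (rfl | ⟨F, hF, rfl, hFS⟩)
    · exact hWHB
    · exact hWB F hF hFS
  have hcl : ∀ g ∈ J, (∀ D ∈ Fam, cj g D ≤ (S : Subgroup G)) → ∀ D ∈ Fam, cj g D ≤ sSup Fam := by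
    intro g hg hgS
    have hgM : g ∈ ML (S : Subgroup G) (LH (S : Subgroup G) J) := mem_ML_of_le (hgS _ (Or.inl rfl))
    rintro D (rfl | ⟨F, hF, rfl, hFS⟩)
    · rw [cj_eq_of_mem_normalizer hgM]
      exact le_sSup (Or.inl rfl)
    · have h1 := WW_cj (F := F) (ML_le_norm_V _ _ hgM)
      have h3 := hgS _ (Or.inr ⟨F, hF, rfl, hFS⟩)
      rw [← h1] at h3 ⊢
      exact le_sSup (Or.inr ⟨cj g F, hF.cj (ML_le_norm_V _ _ hgM), rfl, h3⟩)
  have hex : ∃ i, ∃ D ∈ Fam, ¬ D ≤ o2 (X i) := by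
    by_contra hcon
    push Not at hcon
    have hKB : sSup Fam ≤ B := sSup_le hFamB
    have hKS : sSup Fam ≤ (S : Subgroup G) := hKB.trans a.wc.le
    have hcl' : ∀ g ∈ J, cj g (sSup Fam) ≤ (S : Subgroup G) → cj g (sSup Fam) ≤ sSup Fam := by
      intro g hg hgS
      rw [cj_sSup]
      exact iSup_le fun D => hcl g hg (fun D hD => (cj_mono g (le_sSup hD)).trans hgS) D D.2
    have hcore : sSup Fam ≤ o2 J := by
      refine le_o2 (hKS.trans hSJ) (S.isPGroup'.to_le hKS) (sup_le ?_ (iSup_le fun i => ?_))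
      · intro m hm
        refine mem_normalizer_of_map_le (hcl' m (hMJ hm) ?_)
        have h1 := cj_mono m hKB
        rw [cj_eq_of_mem_normalizer hm] at h1
        exact h1.trans a.wc.le
      · intro x hx
        refine mem_normalizer_of_map_le (hcl' x (hXJ i hx) ?_)
        have h1 := cj_mono x (sSup_le (hcon i) : sSup Fam ≤ o2 (X i))
        rw [cj_eq_of_mem_normalizer (le_normalizer_o2 _ hx)] at h1
        exact h1.trans ((o2_le_syl ((f i).sylX (p i))).trans (f i).T_le)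
    exact hne0 (((le_sSup (a := WW V' F0) (Or.inr ⟨F0, hF0, rfl, hS0⟩)).trans hcore).trans (o2_cent hSJ char2))
  obtain ⟨i, D, hD, hDX⟩ := hex
  have hcen : ∀ D, D ≤ B → D ≤ centralizer (zl (S : Subgroup G) J : Set G) → D ≤ o2 (X i) := fun D hDB hDc =>
    (pn i).le_o2_of_cent_U (S.isPGroup'.to_le (hDB.trans a.wc.le)) ((hDB.trans (hBT i)).trans (p i).T_le)
      (hDc.trans (centralizer_le (hUH i)))
  rcases hD with rfl | ⟨F₁, hF₁, rfl, hFS⟩
  · exact absurd (hcen _ hWHB (hWHle.trans inf_le_right)) hDX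
  have hWB₁ := hWB F₁ hF₁ hFS
  have hy : NOne.Flat.Hyp V' F₁ := hyp_of hc root hF₁
  refine ⟨F₁, ?_, fun h0 => ?_, hVH.trans hle⟩
  · exact
      { pan := pn
        noov := fun i => K0.noOv FFBr.aStmt ((f i).sylX (p i)) ((f i).isMinPar l (p i))
        sm := fun i => sm l hc (pn i)
        two := h2
        hno := fun i => noOver_of (Bridge.Sit.of_fl hc l (f i) (p i) (pn i).U_comm (pn i).U_sq (le_cl _ _)
          (le_normalizer_cl _ _))
        hy := hy
        hoff := hOff _ _ hy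
        good := good_adm_cj a hc
        WQ := hWB₁
        WX := ⟨i, hDX⟩
        UV := fun i => (hUH i).trans hle }
  · -- `W` centralises `V_J`
    have h1 : zl (S : Subgroup G) J ≤ EE V' F₁ := hHV.trans h0
    have h3 := hy.off_of_le (hOff _ _ hy) h1
    have hW2 : IsPGroup 2 (WW V' F₁) := WW_pgroup _ _
    have hWH : WW V' F₁ ≤ normalizer (zl (S : Subgroup G) J : Set G) :=
      ((hWB₁.trans a.wc.le).trans hSJ).trans (le_normalizer_zl _ _)
    obtain ⟨e1, e2⟩ := hy.elem_W hle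
    by_cases hcen' : WW V' F₁ ≤ centralizer (zl (S : Subgroup G) J : Set G)
    · exact hDX (hcen _ hWB₁ hcen')
    · have h4 := hn (WW V' F₁) hW2 hWH (fun s hs => by rw [pow_two]; exact e2 s hs)
        (fun s hs t ht => e1 s hs t ht) hcen'
      exact absurd h3 (not_le.2 h4)

end

end Cfsg.Agent.Omega.NO3b.BetaTwo

end

section


/-!
# THEOREM BETA2 for a family of panels (helper506, bb #21336 (A))

* `BtF.false` : the abstract form;
* `fam_stage` : at a member `L` of the chain, panels `(F i, T i, X i)` over `Z` with two noncentral factors,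
  `J = ⟨ML S L, X i⟩` 2-local, `V_J` not FF: `V_J ≤ O₂(C_G(Z))`;
* `fam_adm` : for an admissible `B`: `V'_J ≤ O₂(C_G(Z))`;
* `ff_adm` : `B` minimal admissible: `V_J` is FF.
-/

set_option autoImplicit false

namespace Cfsg.Agent.Omega.NO3b.BetaTwo

open Subgroup Cfsg
open Cfsg.Agent.ZN (o2 zc zl)
open Cfsg.Agent.ZN.ChoiceBase hiding mem_zc
open Cfsg.Agent.Omega.NO3b.EZero (NotFF Par cent_symm cj_cent cl le_cl cj_le_cl cl_le le_normalizer_cl)
open Cfsg.Agent.Omega.NO3b.Alpha (Fl)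
open Cfsg.Agent.Omega.NO3b.Wc
open Cfsg.Agent.Omega.NO3b.Exit
open Cfsg.Agent.Omega.NO3b.Chain
open Cfsg.Agent.Omega.NO3b.K0.Mix (Pan SM Two)
open Cfsg.Agent.Omega.NOne.Flat (EE WW NN)
open Cfsg.Agent.Omega.NOne.NearFF (c)

universe u v

variable {G : Type u} [Group G] [Finite G] {ι : Type v}

/-- **THEOREM BETA2 for a family**, abstract form -/
theorem BtF.false {V : Subgroup G} {F T X : ι → Subgroup G} {L Q0 V' F₁ : Subgroup G}
    (t : BtF V F T X L Q0 V' F₁) {H : Subgroup G} (hH : H ≤ (⨆ i, X i) ⊔ L) (hLH : L ≤ H) (hXH : ∀ i, X i ≤ H)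
    (hE : ¬ cl V H ≤ EE V' F₁) (hV' : cl V H ≤ V') : False := by
  obtain ⟨h, hh, hB, i, hn⟩ := t.exists_gal hH hLH hXH hE
  have hU : cj h (cl V (X i)) ≤ V' := by
    refine le_trans ?_ hV'
    unfold cl
    rw [EZero.cj_iSup]
    refine iSup_le fun x => ?_
    rw [cj_cj]
    exact cj_le_cl (mul_mem hh (hXH i x.2))
  have hc := t.count (i := i) hB hU hn fun x hx h1 => t.line hU hx h1
  have h0 : 0 < F₁.relIndex (V' ⊓ BF V X F₁) := Nat.pos_of_ne_zero index_ne_zero_of_finite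
  rw [t.relIndex_B] at hc
  obtain ⟨ρ, hρ⟩ := Key.key t.hy t.B_le_W BtF.X'_norm_B
    (fun w hw hwE r hr => t.exists_B hw hwE hr) t.B_nle (by omega)
  obtain ⟨j, hj⟩ := t.WX
  exact end_ (t.pan j) (t.noov j) (t.two j) t.hy t.hoff t.WQ hj t.V_le_F₁ (t.U_le_E j) ρ
    fun r hr hrF => hρ r ⟨t.UV j hr, BtF.U_le_B j hr⟩ hrF

variable {S : Sylow 2 G} {L B : Subgroup G} {F T X : ι → Subgroup G}

/-- **THEOREM BETA2 for a family**, at a member of the chain -/
theorem fam_stage (h : Stage S L) (hc : IsCharacteristicTwoType G) (hne : zc (S : Subgroup G) ≠ ⊥)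
    (f : ∀ i, Fl S (VL (S : Subgroup G) L) (F i) (T i))
    (p : ∀ i, Par (VL (S : Subgroup G) L) (F i) (T i) (X i)) (h2 : ∀ i, Two (VL (S : Subgroup G) L) (X i))
    (hloc : ∃ R : Subgroup G, R ≠ ⊥ ∧ IsPGroup 2 R ∧ JJ (S : Subgroup G) L X ≤ normalizer (R : Set G))
    (hn : NotFF (zl (S : Subgroup G) (JJ (S : Subgroup G) L X))) :
    zl (S : Subgroup G) (JJ (S : Subgroup G) L X) ≤ o2 (centralizer (zc (S : Subgroup G) : Set G)) := by
  by_contra hV
  obtain ⟨F₁, t, h1, h3⟩ := exists_btF h hc hne f p h2 hloc hn hV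
  have e : normalizer (((S : Subgroup G) ⊓ centralizer (VL (S : Subgroup G) L : Set G) : Subgroup G) : Set G) =
      ML (S : Subgroup G) L := by
    rw [h.toRoot.cs_V]
    rfl
  rw [e] at t
  refine t.false (H := JJ (S : Subgroup G) L X) (sup_le le_sup_right le_sup_left) le_sup_left
    (fun i => (le_iSup X i).trans le_sup_right) h1 h3

section adm

variable (a : Adm S L B) (hc : IsCharacteristicTwoType G)
  (f : ∀ i, Fl S (VB (S : Subgroup G) B) (F i) (T i))
  (p : ∀ i, Par (VB (S : Subgroup G) B) (F i) (T i) (X i))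
  (h2 : ∀ i, Two (VB (S : Subgroup G) B) (X i)) (hSne : (S : Subgroup G) ≠ ⊥)
  (hloc : ∃ R : Subgroup G, R ≠ ⊥ ∧ IsPGroup 2 R ∧ JB B X ≤ normalizer (R : Set G))
include a hc f p h2 hSne hloc

/-- **THEOREM BETA2 for a family**, for an admissible `B` -/
theorem fam_adm (hn : NotFF (zl (S : Subgroup G) (JB B X))) :
    VL (S : Subgroup G) (LH (S : Subgroup G) (JB B X)) ≤ o2 (centralizer (zc (S : Subgroup G) : Set G)) := by
  by_contra hV
  obtain ⟨F₁, t, h1, h3⟩ := exists_btF_adm a hc f p hloc h2 hSne hn hV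
  exact t.false (H := JB B X) (sup_le le_sup_right le_sup_left) NB_le_JB X_le_JB h1 h3

/-- `B` minimal admissible: `V_J` is FF for every nonempty family of panels with two noncentral factors. -/
theorem ff_adm [Nonempty ι] (hmin : ∀ B', Adm S L B' → B' ≤ B → B' = B) :
    ¬ NotFF (zl (S : Subgroup G) (JB B X)) := by
  intro hn
  obtain ⟨h1, h3, h4⟩ := closed_adm a hc f p hloc hn (fam_adm a hc f p h2 hSne hloc hn)
  exact h4 (hmin _ h1 h3)

end adm

end Cfsg.Agent.Omega.NO3b.BetaTwo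

end

section


/-!
# THEOREM BETA2 in the frame `LocG` (NO-3L and NO-3S)

`LocG S M B`, `V = VB S B`:

* `LocG.gam_fam` : `V_J`, `J = ⟨N_G(B), X i⟩`, is FF for every nonempty family of panels over `Z`;
* `LocG.gam` : `V_H`, `H = ⟨N_G(B), X⟩`, is FF for every panel over `Z`.
-/

set_option autoImplicit false

namespace Cfsg.Agent.Omega.NOThreeL.HypGFrame.LocG

open Subgroup Cfsg
open Cfsg.Agent.ZN (o2 zc zl)
open Cfsg.Agent.Omega.NO3b.EZero (NotFF Par cl)
open Cfsg.Agent.Omega.NO3b.Alpha (Fl)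
open Cfsg.Agent.Omega.NO3b.Exit (Adm Fr VB)
open Cfsg.Agent.Omega.NO3b.BetaTwo (JB ff_adm)

universe u v

variable {G : Type u} [Group G] [Finite G] {S : Sylow 2 G} {M B : Subgroup G} (h : LocG S M B)
include h

/-- **every family of panels over `Z` has `V_J` FF** -/
theorem gam_fam (hc : IsCharacteristicTwoType G) (hSne : (S : Subgroup G) ≠ ⊥) {ι : Type v} [Nonempty ι]
    (F T X : ι → Subgroup G)
    (f : ∀ i, Fl S (VB (S : Subgroup G) B) (F i) (T i)) (hZ : ∀ i, zc (S : Subgroup G) ≤ F i)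
    (p : ∀ i, Par (VB (S : Subgroup G) B) (F i) (T i) (X i)) :
    ¬ NotFF (zl (S : Subgroup G) (JB B X)) := by
  have h2 : ∀ i, NO3b.K0.Mix.Two (VB (S : Subgroup G) B) (X i) := fun i => h.two hc hSne (f i) (hZ i) (p i)
  refine ff_adm h.adm hc f p h2 hSne ?_ h.min
  obtain ⟨R, hR, hR2, h3, h4⟩ := NO3b.Exit.exists_loc_fam FFBr.aStmt hc h.adm.lines F T X f p h2
  rw [h.adm.cs] at h3
  exact ⟨R, hR, hR2, sup_le h3 (iSup_le h4)⟩

/-- **every panel over `Z` has `V_H` FF** -/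
theorem gam (hc : IsCharacteristicTwoType G) (hSne : (S : Subgroup G) ≠ ⊥) {F T X : Subgroup G}
    (f : Fl S (VB (S : Subgroup G) B) F T) (hZ : zc (S : Subgroup G) ≤ F)
    (p : Par (VB (S : Subgroup G) B) F T X) :
    ¬ NotFF (zl (S : Subgroup G) (normalizer (B : Set G) ⊔ X)) := by
  have h1 := h.gam_fam hc hSne (ι := Unit) (fun _ => F) (fun _ => T) (fun _ => X) (fun _ => f) (fun _ => hZ)
    fun _ => p
  have e : JB B (fun _ : Unit => X) = normalizer (B : Set G) ⊔ X := by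
    rw [JB, iSup_const]
  rwa [e] at h1

end Cfsg.Agent.Omega.NOThreeL.HypGFrame.LocG

end

section


/-!
# 3L-T (B), the frame: case (γ) for a family of panels, the M-side in any `V_H`

`Adm S L B`, `M = N_G(B)`, `V = VB S B`, panels `(F i, T i, X i)`, `J = JB B X = ⟨M, X i⟩`.

* `exists_opt_JB` : `V_J` FF gives an optimal offender `A ≤ B` of `V_J` and an `i` with `A ≰ O₂(X i)`;
* `sitH`, `mxH` : for every `H ≥ M, X` of characteristic 2 and an optimal offender `A ≤ B` of `V_H`, `A ≰ O₂(X)`: the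
  M-side frame `MX` in the module `V_H`;
* `BlkOf`, `blkH` : the blocks `Blk0` in the module `V_H`.
-/

set_option autoImplicit false
set_option linter.unusedSectionVars false

namespace Cfsg.Agent.Omega.NO3b.BasePt

open Subgroup Cfsg
open Cfsg.Agent.ZN (o2 zc zl)
open Cfsg.Agent.ZN.ChoiceBase hiding mem_zc
open Cfsg.Agent.ZN.ChoiceSit (Syl o2_le_syl syl_not_dvd)
open Cfsg.Agent.MinSimple.EmptyTI (syl_of_le)
open Cfsg.Agent.Omega.NO3b.EZero (NotFF Par cent_symm cj_cent cl le_cl cj_le_cl cl_le le_normalizer_cl)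
open Cfsg.Agent.Omega.NO3b.Alpha (Fl)
open Cfsg.Agent.Omega.NO3b.Wc
open Cfsg.Agent.Omega.NO3b.Exit
open Cfsg.Agent.Omega.NO3b.Exit.Bridge
open Cfsg.Agent.Omega.NO3b.Exit.TDat (MX Red mx_of_tight sbc FFq ncl KV)
open Cfsg.Agent.Omega.NO3b.Exit.BlkZ (Blk0)
open Cfsg.Agent.Omega.NO3b.Exit.TT (nf)
open Cfsg.Agent.Omega.NO3b.K0.Mix (Pan Two)
open Cfsg.Agent.Omega.NO3b.BetaTwo (JB)
open Cfsg.Agent.Omega.NOThreeL.Star (Opt exists_opt)
open Cfsg.Agent.Omega.FFBr (XX pr im mem_im)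
open Cfsg.Agent.Omega.FF.Basic (fx)
open Cfsg.Agent.MinSimple.VModule (zc_le_zl le_normalizer_zl zl_le le_normalizer_o2 le_o2 mem_normalizer_of_map_le
  le_centralizer_zc)
open scoped Pointwise

universe u v

variable {G : Type u} [Group G] [Finite G] {S : Sylow 2 G} {L B : Subgroup G}

/-! ### (γ) for a family -/

section fam

variable {ι : Type v} {F T X : ι → Subgroup G}

/-- `C_T(U) ≤ O₂(X)` in the form needed here -/
theorem le_o2_of_cent {F T X : Subgroup G} (a : Adm S L B) (hc : IsCharacteristicTwoType G)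
    (f : Fl S (VB (S : Subgroup G) B) F T) (p : Par (VB (S : Subgroup G) B) F T X) {D : Subgroup G} (hDB : D ≤ B)
    (hD : D ≤ centralizer (cl (VB (S : Subgroup G) B) X : Set G)) : D ≤ o2 X := by
  have l := a.lines
  have pn : Pan (VB (S : Subgroup G) B) F T X (normalizer (B : Set G)) B := by
    have h1 := Exit.pan f l p fun g hg => Alpha.ti hc l g hg
    rwa [a.cs] at h1
  have hBT : B ≤ T := by
    have hQ := f.Q0_le
    rwa [a.cs] at hQ
  exact pn.le_o2_of_cent_U (S.isPGroup'.to_le (hDB.trans a.wc.le)) ((hDB.trans hBT).trans p.T_le) hD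

/-- **(γ)** for a family of panels. -/
theorem exists_opt_JB (a : Adm S L B) (hc : IsCharacteristicTwoType G)
    (f : ∀ i, Fl S (VB (S : Subgroup G) B) (F i) (T i))
    (p : ∀ i, Par (VB (S : Subgroup G) B) (F i) (T i) (X i))
    (hloc : ∃ R : Subgroup G, R ≠ ⊥ ∧ IsPGroup 2 R ∧ JB B X ≤ normalizer (R : Set G))
    (hff : ¬ NotFF (zl (S : Subgroup G) (JB B X))) :
    ∃ A, Opt (zl (S : Subgroup G) (JB B X)) A ∧ A ≤ B ∧ ∃ i, ¬ A ≤ o2 (X i) := by
  set J := JB B X with hJ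
  have hMJ : normalizer (B : Set G) ≤ J := BetaTwo.NB_le_JB
  have hXJ : ∀ i, X i ≤ J := BetaTwo.X_le_JB
  have hSJ : (S : Subgroup G) ≤ J := BetaTwo.S_le_JB a
  have char2 : J ⊓ centralizer (o2 J : Set G) ≤ o2 J := BetaTwo.char2_JB a hc hloc
  have hVJ : VB (S : Subgroup G) B ≤ zl (S : Subgroup G) J := BetaTwo.V_le_JB a
  have hUJ : ∀ i, cl (VB (S : Subgroup G) B) (X i) ≤ zl (S : Subgroup G) J := fun i => cl_le fun x hx =>
    (cj_le_cl (V := VB (S : Subgroup G) B) (hXJ i hx)).trans (BetaTwo.cl_le_JB a)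
  have hVc := zl_cent hSJ char2
  -- best offenders centralise `V`
  have hAV : ∀ A, Opt (zl (S : Subgroup G) J) A → A ≤ (S : Subgroup G) → A ≤ B := by
    intro A hA hAS
    refine le_trans (le_inf hAS ?_) a.cs.le
    by_contra hne
    have hoff := offM_of_opt hA hVc hVJ hne
    have h3 := a.nff A hA.pg (hAS.trans a.lines.S_le) hoff.sq hoff.comm hne
    exact absurd (FFThm.relIndex_le_iff.1 hoff.le) (not_le.2 h3)
  obtain ⟨A0, hA0⟩ := exists_opt hff
  obtain ⟨n, hn, hnS⟩ := FFThm.exists_conj_le S (hSJ.trans (le_normalizer_zl _ _)) hA0.pg hA0.norm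
  set Fam : Set (Subgroup G) := {D | D = (S : Subgroup G) ⊓ centralizer (zl (S : Subgroup G) J : Set G) ∨
      Opt (zl (S : Subgroup G) J) D ∧ D ≤ (S : Subgroup G)} with hFam
  have hCB : (S : Subgroup G) ⊓ centralizer (zl (S : Subgroup G) J : Set G) ≤ B :=
    (inf_le_inf_left _ (centralizer_le hVJ)).trans a.cs.le
  have hFamB : ∀ D ∈ Fam, D ≤ B := by
    rintro D (rfl | ⟨h1, h2⟩)
    · exact hCB
    · exact hAV D h1 h2
  have hcl : ∀ g ∈ J, (∀ D ∈ Fam, cj g D ≤ (S : Subgroup G)) → ∀ D ∈ Fam, cj g D ≤ sSup Fam := by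
    rintro g hg hgS D (rfl | ⟨h1, h2⟩)
    · refine le_trans (le_inf (hgS _ (Or.inl rfl)) ?_) (le_sSup (Or.inl rfl))
      rw [cj_inf, cj_centralizer, cj_eq_of_mem_normalizer (le_normalizer_zl _ _ hg)]
      exact inf_le_right
    · exact le_sSup (a := cj g D) (Or.inr ⟨h1.cj (le_normalizer_zl _ _ hg), hgS D (Or.inr ⟨h1, h2⟩)⟩)
  have hex : ∃ i, ∃ D ∈ Fam, ¬ D ≤ o2 (X i) := by
    by_contra hcon
    push Not at hcon
    have hKB : sSup Fam ≤ B := sSup_le hFamB
    have hKS : sSup Fam ≤ (S : Subgroup G) := hKB.trans a.wc.le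
    have hcl' : ∀ g ∈ J, cj g (sSup Fam) ≤ (S : Subgroup G) → cj g (sSup Fam) ≤ sSup Fam := by
      intro g hg hgS
      rw [cj_sSup]
      exact iSup_le fun D => hcl g hg (fun D hD => (cj_mono g (le_sSup hD)).trans hgS) D D.2
    have hcore : sSup Fam ≤ o2 J := by
      refine le_o2 (hKS.trans hSJ) (S.isPGroup'.to_le hKS) (sup_le ?_ (iSup_le fun i => ?_))
      · intro m hm
        refine mem_normalizer_of_map_le (hcl' m (hMJ hm) ?_)
        have h1 := cj_mono m hKB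
        rw [cj_eq_of_mem_normalizer hm] at h1
        exact h1.trans a.wc.le
      · intro x hx
        refine mem_normalizer_of_map_le (hcl' x (hXJ i hx) ?_)
        have h1 := cj_mono x (sSup_le (hcon i) : sSup Fam ≤ o2 (X i))
        rw [cj_eq_of_mem_normalizer (le_normalizer_o2 _ hx)] at h1
        exact h1.trans ((o2_le_syl ((f i).sylX (p i))).trans (f i).T_le)
    exact (hA0.cj hn).ne (((le_sSup (a := cj n A0) (Or.inr ⟨hA0.cj hn, hnS⟩)).trans hcore).trans (o2_cent hSJ char2))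
  obtain ⟨i, D, hD, hDX⟩ := hex
  rcases hD with rfl | ⟨h1, h2⟩
  · exact absurd (le_o2_of_cent a hc (f i) (p i) hCB (inf_le_right.trans (centralizer_le (hUJ i)))) hDX
  · exact ⟨D, h1, hAV D h1 h2, i, hDX⟩

end fam

/-! ### the M-side in `V_H` -/

section mx

variable {F T X H : Subgroup G} (a : Adm S L B) (hc : IsCharacteristicTwoType G)
  (f : Fl S (VB (S : Subgroup G) B) F T) (p : Par (VB (S : Subgroup G) B) F T X)
  (hM : normalizer (B : Set G) ≤ H) (hX : X ≤ H) (hH : H ⊓ centralizer (o2 H : Set G) ≤ o2 H)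

omit [Finite G] in
/-- `H` normalises `V_H` -/
theorem nH (S : Subgroup G) (H : Subgroup G) : H ≤ normalizer (zl S H : Set G) := le_normalizer_zl _ _

include a hM hH in
theorem cH : zl (S : Subgroup G) H ≤ centralizer (zl (S : Subgroup G) H : Set G) :=
  zl_cent ((wc_S_le a.wc).trans hM) hH

omit [Finite G] in
include hM in
theorem V_le_H (S : Subgroup G) : VB S B ≤ zl S H := NOThreeL.Star.zl_mono _ hM

include a hc f p hM hX hH

/-- the panel acts on `V_H` -/
theorem sitH : Sit (VB (S : Subgroup G) B) F T X (zl (S : Subgroup G) H) :=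
  Sit.of_fl hc a.lines f p (cH a hM hH) (zl_sq' ((wc_S_le a.wc).trans hM) hH) (V_le_H hM _)
    (hX.trans (le_normalizer_zl _ _))

/-- the M-side frame in the module `V_H`, for every line moved by `A` -/
theorem mxH' {A : Subgroup G} (hA : Opt (zl (S : Subgroup G) H) A) (hAB : A ≤ B)
    (hAX : ¬ A ≤ o2 X) (h2 : Two (VB (S : Subgroup G) B) X)
    {x : ↥(im (nH (S : Subgroup G) H) X)}
    (hx : ¬ imx (nH (S : Subgroup G) H) X A ≤
      nf _ (sm x (ad (cH a hM hH) (VB (S : Subgroup G) B)))) :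
    MX (im (nH (S : Subgroup G) H) (normalizer (B : Set G))) (im (nH (S : Subgroup G) H) X)
      (im (nH (S : Subgroup G) H) B) (im (nH (S : Subgroup G) H) A)
      (ad (cH a hM hH) (VB (S : Subgroup G) B)) (ad (cH a hM hH) F) (x : XX (nH (S : Subgroup G) H)) := by
  have s := sitH a hc f p hM hX hH
  have hSM : (S : Subgroup G) ≤ normalizer (B : Set G) := wc_S_le a.wc
  have hBT : B ≤ T := by
    have hQ := f.Q0_le
    rwa [a.cs] at hQ
  have hBV : B ≤ centralizer (VB (S : Subgroup G) B : Set G) :=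
    a.cs.symm.le.trans (inf_le_right (a := (S : Subgroup G)))
  obtain ⟨P, hP⟩ := s.exists_syl (nH (S : Subgroup G) H) hX
  have hAT : A ≤ T := hAB.trans hBT
  have hAXX : A ≤ X := hAT.trans s.syl.1
  have e : (imx (nH (S : Subgroup G) H) X A).map (im (nH (S : Subgroup G) H) X).subtype =
      im (nH (S : Subgroup G) H) A := by
    unfold imx
    rw [subgroupOf_map_subtype]
    exact inf_eq_left.2 (LocBar.im_mono _ hAXX)
  have key := mx_of_tight (faith (hc := s.cm) (nH (S : Subgroup G) H)) (s.datU (nH (S : Subgroup G) H) hX hP)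
    (s.mbu (nH (S : Subgroup G) H) hX hA hAT hAX) (by
      intro h0
      refine s.two_ne hA hAT hAX h2 fun a ha => ?_
      have h1 : phi (nH (S : Subgroup G) H) hX ⟨a, hAXX ha.1⟩ ∈
          imx (nH (S : Subgroup G) H) X A ⊓ pCore 2 ↥(im (nH (S : Subgroup G) H) X) :=
        ⟨phi_mem_imx _ hX ha.1, (s.mem_core_iff _ hX (hAT ha.1)).2 ha.2⟩
      rw [h0, mem_bot] at h1
      exact (phi_eq_one _ hX).1 h1)
    (M := im (nH (S : Subgroup G) H) (normalizer (B : Set G)))
    (D := im (nH (S : Subgroup G) H) B)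
    (fun m hm v hv => LocBar.im_smul _ (le_normalizer_zl _ _) hm hv)
    (LocBar.im_mono _ (hBT.trans s.syl.1)) (by rw [e]; exact LocBar.im_mono _ hAB)
    (fun m hm d hd => LocBar.im_conj _ le_rfl hm hd)
    (fun d hd v hv => LocBar.im_fix _ hBV hd hv) (by
      rw [← s.core_eq (nH (S : Subgroup G) H) hX]
      unfold imx
      rw [subgroupOf_map_subtype]
      refine inf_le_left.trans (LocBar.im_mono _ ?_)
      exact (o2_le_syl s.syl).trans (f.T_le.trans hSM))
      (LocBar.red_im (S := (S : Subgroup G)) (Z := zc (S : Subgroup G)) (nH (S : Subgroup G) H) hM (syl_of_le hSM)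
        (V_le_H hM _) (le_normalizer_zl _ _) (zc_le_zl _ _) (le_centralizer_zc _) fun _ hW hWM => zl_le hW hWM) hx
  rwa [e] at key

/-- the M-side frame in the module `V_H` -/
theorem mxH {A : Subgroup G} (hA : Opt (zl (S : Subgroup G) H) A) (hAB : A ≤ B)
    (hAX : ¬ A ≤ o2 X) (h2 : Two (VB (S : Subgroup G) B) X) :
    ∃ x ∈ im (nH (S : Subgroup G) H) X, MX (im (nH (S : Subgroup G) H) (normalizer (B : Set G)))
      (im (nH (S : Subgroup G) H) X) (im (nH (S : Subgroup G) H) B) (im (nH (S : Subgroup G) H) A)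
      (ad (cH a hM hH) (VB (S : Subgroup G) B)) (ad (cH a hM hH) F) x := by
  have s := sitH a hc f p hM hX hH
  have hBT : B ≤ T := by
    have hQ := f.Q0_le
    rwa [a.cs] at hQ
  obtain ⟨x, hx⟩ := (s.tight (nH (S : Subgroup G) H) hX hA (hAB.trans hBT) hAX).ex
  exact ⟨x, x.2, mxH' a hc f p hM hX hH hA hAB hAX h2 hx⟩

end mx

/-- The blocks of `V` for the panel with flat `F`, in the module `V_H`. -/
def BlkOf (S : Subgroup G) (B F H : Subgroup G) (hU : zl S H ≤ centralizer (zl S H : Set G)) : Prop :=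
  ∃ (BB : Subgroup (XX (nH S H))) (Lw C : AddSubgroup (MU hU)) (x : XX (nH S H))
    (hV : ∀ m ∈ im (nH S H) (normalizer (B : Set G)), ∀ v ∈ ad hU (VB S B), m • v ∈ ad hU (VB S B)),
    Blk0 (sbc (im (nH S H) (normalizer (B : Set G))) (FFq (im (nH S H) (normalizer (B : Set G))) (ad hU F)))
      (FFq (im (nH S H) (normalizer (B : Set G))) (ad hU F)) BB (ad hU (VB S B)) (ad hU F) Lw C x
      (im (nH S H) (normalizer (B : Set G))) (KV (im (nH S H) (normalizer (B : Set G))) (ad hU (VB S B)) hV)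
      (im (nH S H) S)

section blk

variable {F T X H : Subgroup G} (a : Adm S L B) (hc : IsCharacteristicTwoType G)
  (f : Fl S (VB (S : Subgroup G) B) F T) (p : Par (VB (S : Subgroup G) B) F T X)
  (hM : normalizer (B : Set G) ≤ H) (hX : X ≤ H) (hH : H ⊓ centralizer (o2 H : Set G) ≤ o2 H)
include a hc f p hM hX hH

theorem blkH {A : Subgroup G} (hA : Opt (zl (S : Subgroup G) H) A) (hAB : A ≤ B)
    (hAX : ¬ A ≤ o2 X) (h2 : Two (VB (S : Subgroup G) B) X) :
    BlkOf (S : Subgroup G) B F H (cH a hM hH) := by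
  obtain ⟨x, -, m⟩ := mxH a hc f p hM hX hH hA hAB hAX h2
  have hSM : (S : Subgroup G) ≤ normalizer (B : Set G) := wc_S_le a.wc
  exact ⟨_, _, _, _, _, Chain.blk0 m (LocBar.im_mono _ hSM) (Chain.S2_bar _)
    (syl_not_dvd (LocBar.syl_im (nH (S : Subgroup G) H) (syl_of_le hSM) hM))
    (Chain.gen_bar _ _ hM (V_le_H hM _) (zc_le_zl _ _) fun _ hW hWM => zl_le hW hWM)⟩

end blk

end Cfsg.Agent.Omega.NO3b.BasePt

end

section


/-!
# The offender of `V_J` for a family of panels (helper957's (B3), helper506 #21336 (A), (B))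

`B` admissible, `V = VB S B`, panels `(F i, T i, X i)` of `V`, `J = JB B X = ⟨N_G(B), X i⟩` 2-local, `V_J = zl S J` FF:

* `exists_opt_adm` : an optimal offender `A ≤ B` of `V_J` with `A ≰ O₂(X i)` for some `i`;
* `LocG.exists_opt_fam`, `LocG.loc_fam` : the same in the frame `LocG` for a family of panels over `Z`
  (`V_J` is FF by THEOREM BETA2, `J` is local by the mixed K0);
* `LocG.exists_opt_pair`, `LocG.loc_pair`, `LocG.ff_pair` : two panels, `J = ⟨M(L), X, X'⟩`, `L = N_G(B)`.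
-/

set_option autoImplicit false

namespace Cfsg.Agent.Omega.NO3b.BetaTwo

open Subgroup Cfsg
open Cfsg.Agent.ZN (o2 zc zl)
open Cfsg.Agent.ZN.ChoiceBase hiding mem_zc
open Cfsg.Agent.ZN.ChoiceSit (o2_le_syl)
open Cfsg.Agent.Omega.NO3b.EZero (NotFF Par cent_symm cj_cent cl le_cl cj_le_cl cl_le le_normalizer_cl)
open Cfsg.Agent.Omega.NO3b.Alpha (Fl)
open Cfsg.Agent.Omega.NO3b.Wc
open Cfsg.Agent.Omega.NO3b.Exit
open Cfsg.Agent.Omega.NO3b.Chain
open Cfsg.Agent.Omega.NO3b.K0.Mix (Pan SM Two)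
open Cfsg.Agent.Omega.NOThreeL.Star (Opt Ok exists_opt)
open Cfsg.Agent.MinSimple.VModule (zc_le_zl le_normalizer_zl zl_le le_normalizer_o2 le_o2 mem_normalizer_of_map_le)

universe u v

variable {G : Type u} [Group G] [Finite G] {S : Sylow 2 G} {L B : Subgroup G} {ι : Type v}
  {F T X : ι → Subgroup G}

/-- **an optimal offender of `V_J` in `B`, not in `O₂(X i)` for some `i`** -/
theorem exists_opt_adm (a : Adm S L B) (hc : IsCharacteristicTwoType G)
    (f : ∀ i, Fl S (VB (S : Subgroup G) B) (F i) (T i))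
    (p : ∀ i, Par (VB (S : Subgroup G) B) (F i) (T i) (X i))
    (hloc : ∃ R : Subgroup G, R ≠ ⊥ ∧ IsPGroup 2 R ∧ JB B X ≤ normalizer (R : Set G))
    (hff : ¬ NotFF (zl (S : Subgroup G) (JB B X))) :
    ∃ A : Subgroup G, Opt (zl (S : Subgroup G) (JB B X)) A ∧ A ≤ B ∧ ∃ i, ¬ A ≤ o2 (X i) := by
  set V := VB (S : Subgroup G) B with hVd
  set J := JB B X with hJ
  have l := a.lines
  have hMJ : normalizer (B : Set G) ≤ J := NB_le_JB
  have hXJ : ∀ i, X i ≤ J := X_le_JB
  have hSJ : (S : Subgroup G) ≤ J := S_le_JB a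
  have char2 : J ⊓ centralizer (o2 J : Set G) ≤ o2 J := char2_JB a hc hloc
  have pn : ∀ i, Pan V (F i) (T i) (X i) (normalizer (B : Set G)) B := fun i => by
    have h1 := pan (f i) l (p i) fun g hg => Alpha.ti hc l g hg
    rwa [a.cs] at h1
  have hBT : ∀ i, B ≤ T i := fun i => by
    have hQ := (f i).Q0_le
    rwa [a.cs] at hQ
  have hVc := zl_cent hSJ char2
  have hVJ : V ≤ zl (S : Subgroup G) J := V_le_JB a
  have hVH : cl V J ≤ zl (S : Subgroup G) J := cl_le_JB a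
  have hUH : ∀ i, cl V (X i) ≤ zl (S : Subgroup G) J := fun i => cl_le fun x hx =>
    (cj_le_cl (V := V) (hXJ i hx)).trans hVH
  -- best offenders centralise `V`
  have hAV : ∀ A, Opt (zl (S : Subgroup G) J) A → A ≤ (S : Subgroup G) → A ≤ B := by
    intro A hA hAS
    refine le_trans (le_inf hAS ?_) a.cs.le
    by_contra hne
    have hoff := offM_of_opt hA hVc hVJ hne
    have h3 := a.nff A hA.pg (hAS.trans a.lines.S_le) hoff.sq hoff.comm hne
    exact absurd (FFThm.relIndex_le_iff.1 hoff.le) (not_le.2 h3)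
  have hQB : (S : Subgroup G) ⊓ centralizer (zl (S : Subgroup G) J : Set G) ≤ B :=
    (inf_le_inf_left _ (centralizer_le hVJ)).trans a.cs.le
  obtain ⟨A0, hA0⟩ := exists_opt hff
  obtain ⟨n, hn, hnS⟩ := FFThm.exists_conj_le S (hSJ.trans (le_normalizer_zl _ _)) hA0.pg hA0.norm
  set Fam : Set (Subgroup G) := {D | D = (S : Subgroup G) ⊓ centralizer (zl (S : Subgroup G) J : Set G) ∨
      Opt (zl (S : Subgroup G) J) D ∧ D ≤ (S : Subgroup G)} with hFam
  have hFamB : ∀ D ∈ Fam, D ≤ B := by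
    rintro D (rfl | ⟨h1, h2⟩)
    · exact hQB
    · exact hAV D h1 h2
  have hcl : ∀ g ∈ J, (∀ D ∈ Fam, cj g D ≤ (S : Subgroup G)) → ∀ D ∈ Fam, cj g D ≤ sSup Fam := by
    rintro g hg hgS D (rfl | ⟨h1, h2⟩)
    · refine le_trans (le_inf (hgS _ (Or.inl rfl)) ?_) (le_sSup (Or.inl rfl))
      rw [cj_inf, cj_centralizer, cj_eq_of_mem_normalizer (le_normalizer_zl _ _ hg)]
      exact inf_le_right
    · exact le_sSup (a := cj g D) (Or.inr ⟨h1.cj (le_normalizer_zl _ _ hg), hgS D (Or.inr ⟨h1, h2⟩)⟩)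
  have hex : ∃ i, ∃ D ∈ Fam, ¬ D ≤ o2 (X i) := by
    by_contra hcon
    push Not at hcon
    have hKB : sSup Fam ≤ B := sSup_le hFamB
    have hKS : sSup Fam ≤ (S : Subgroup G) := hKB.trans a.wc.le
    have hcl' : ∀ g ∈ J, cj g (sSup Fam) ≤ (S : Subgroup G) → cj g (sSup Fam) ≤ sSup Fam := by
      intro g hg hgS
      rw [cj_sSup]
      exact iSup_le fun D => hcl g hg (fun D hD => (cj_mono g (le_sSup hD)).trans hgS) D D.2
    have hcore : sSup Fam ≤ o2 J := by
      refine le_o2 (hKS.trans hSJ) (S.isPGroup'.to_le hKS) (sup_le ?_ (iSup_le fun i => ?_))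
      · intro m hm
        refine mem_normalizer_of_map_le (hcl' m (hMJ hm) ?_)
        have h1 := cj_mono m hKB
        rw [cj_eq_of_mem_normalizer hm] at h1
        exact h1.trans a.wc.le
      · intro x hx
        refine mem_normalizer_of_map_le (hcl' x (hXJ i hx) ?_)
        have h1 := cj_mono x (sSup_le (hcon i) : sSup Fam ≤ o2 (X i))
        rw [cj_eq_of_mem_normalizer (le_normalizer_o2 _ hx)] at h1
        exact h1.trans ((o2_le_syl ((f i).sylX (p i))).trans (f i).T_le)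
    exact (hA0.cj hn).ne (((le_sSup (a := cj n A0) (Or.inr ⟨hA0.cj hn, hnS⟩)).trans hcore).trans
      (o2_cent hSJ char2))
  obtain ⟨i, D, hD, hDX⟩ := hex
  rcases hD with rfl | ⟨h1, h2⟩
  · exact absurd ((pn i).le_o2_of_cent_U (S.isPGroup'.to_le (hQB.trans a.wc.le))
      ((hQB.trans (hBT i)).trans (p i).T_le) (inf_le_right.trans (centralizer_le (hUH i)))) hDX
  · exact ⟨D, h1, hAV D h1 h2, i, hDX⟩

end Cfsg.Agent.Omega.NO3b.BetaTwo

namespace Cfsg.Agent.Omega.NOThreeL.HypGFrame.LocG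

open Subgroup Cfsg
open Cfsg.Agent.ZN (o2 zc zl)
open Cfsg.Agent.Omega.NO3b.EZero (NotFF Par cl)
open Cfsg.Agent.Omega.NO3b.Alpha (Fl)
open Cfsg.Agent.Omega.NO3b.Wc (ML VL WH)
open Cfsg.Agent.Omega.NO3b.Exit (Adm Fr VB)
open Cfsg.Agent.Omega.NO3b.BetaTwo (JB exists_opt_adm)
open Cfsg.Agent.Omega.NOThreeL.Star (Opt)

universe u v

variable {G : Type u} [Group G] [Finite G] {S : Sylow 2 G} {M B : Subgroup G} (h : LocG S M B)
include h

/-- **`J = ⟨N_G(B), X i⟩` is 2-local for every family of panels over `Z`** -/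
theorem loc_fam (hc : IsCharacteristicTwoType G) (hSne : (S : Subgroup G) ≠ ⊥) {ι : Type v} [Nonempty ι]
    (F T X : ι → Subgroup G)
    (f : ∀ i, Fl S (VB (S : Subgroup G) B) (F i) (T i)) (hZ : ∀ i, zc (S : Subgroup G) ≤ F i)
    (p : ∀ i, Par (VB (S : Subgroup G) B) (F i) (T i) (X i)) :
    ∃ R : Subgroup G, R ≠ ⊥ ∧ IsPGroup 2 R ∧ JB B X ≤ normalizer (R : Set G) := by
  have h2 : ∀ i, NO3b.K0.Mix.Two (VB (S : Subgroup G) B) (X i) := fun i => h.two hc hSne (f i) (hZ i) (p i)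
  obtain ⟨R, hR, hR2, h3, h4⟩ := NO3b.Exit.exists_loc_fam FFBr.aStmt hc h.adm.lines F T X f p h2
  rw [h.adm.cs] at h3
  exact ⟨R, hR, hR2, sup_le h3 (iSup_le h4)⟩

/-- **an optimal offender `A ≤ B` of `V_J`, not in `O₂(X i)` for some `i`** -/
theorem exists_opt_fam (hc : IsCharacteristicTwoType G) (hSne : (S : Subgroup G) ≠ ⊥) {ι : Type v} [Nonempty ι]
    (F T X : ι → Subgroup G)
    (f : ∀ i, Fl S (VB (S : Subgroup G) B) (F i) (T i)) (hZ : ∀ i, zc (S : Subgroup G) ≤ F i)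
    (p : ∀ i, Par (VB (S : Subgroup G) B) (F i) (T i) (X i)) :
    ∃ A : Subgroup G, Opt (zl (S : Subgroup G) (JB B X)) A ∧ A ≤ B ∧ ∃ i, ¬ A ≤ o2 (X i) :=
  exists_opt_adm h.adm hc f p (h.loc_fam hc hSne F T X f hZ p) (h.gam_fam hc hSne F T X f hZ p)

section pair

variable (hc : IsCharacteristicTwoType G) (hSne : (S : Subgroup G) ≠ ⊥) {F T X F' T' X' : Subgroup G}
  (f : Fl S (VB (S : Subgroup G) B) F T) (hZ : zc (S : Subgroup G) ≤ F) (p : Par (VB (S : Subgroup G) B) F T X)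
  (f' : Fl S (VB (S : Subgroup G) B) F' T') (hZ' : zc (S : Subgroup G) ≤ F')
  (p' : Par (VB (S : Subgroup G) B) F' T' X')

omit [Finite G] h in
theorem JB_pair (B X X' : Subgroup G) :
    JB B (fun b : Bool => if b then X else X') = normalizer (B : Set G) ⊔ (X ⊔ X') := by
  rw [JB, iSup_bool_eq]
  rfl

include hc hSne f hZ p f' hZ' p'

/-- two panels: `J = ⟨M(L), X, X'⟩`, `L = N_G(B)`, is 2-local -/
theorem loc_pair : ∃ R : Subgroup G, R ≠ ⊥ ∧ IsPGroup 2 R ∧
    ML (S : Subgroup G) (normalizer (B : Set G)) ⊔ (X ⊔ X') ≤ normalizer (R : Set G) := by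
  have h1 := h.loc_fam hc hSne (ι := Bool) (fun b => if b then F else F') (fun b => if b then T else T')
    (fun b => if b then X else X') (by rintro (_ | _); exacts [f', f]) (by rintro (_ | _); exacts [hZ', hZ])
    (by rintro (_ | _); exacts [p', p])
  rwa [JB_pair, ← h.ML_eq] at h1

/-- two panels: `V_J` is FF -/
theorem ff_pair : ¬ NotFF (zl (S : Subgroup G) (ML (S : Subgroup G) (normalizer (B : Set G)) ⊔ (X ⊔ X'))) := by
  have h1 := h.gam_fam hc hSne (ι := Bool) (fun b => if b then F else F') (fun b => if b then T else T')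
    (fun b => if b then X else X') (by rintro (_ | _); exacts [f', f]) (by rintro (_ | _); exacts [hZ', hZ])
    (by rintro (_ | _); exacts [p', p])
  rwa [JB_pair, ← h.ML_eq] at h1

/-- two panels: an optimal offender `A ≤ W(L) = B` of `V_J`, `A ≰ O₂(X)` or `A ≰ O₂(X')` -/
theorem exists_opt_pair : ∃ A : Subgroup G,
    Opt (zl (S : Subgroup G) (ML (S : Subgroup G) (normalizer (B : Set G)) ⊔ (X ⊔ X'))) A ∧
      A ≤ WH (S : Subgroup G) (normalizer (B : Set G)) ∧ (¬ A ≤ o2 X ∨ ¬ A ≤ o2 X') := by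
  obtain ⟨A, h1, h2, i, h3⟩ := h.exists_opt_fam hc hSne (ι := Bool) (fun b => if b then F else F')
    (fun b => if b then T else T')
    (fun b => if b then X else X') (by rintro (_ | _); exacts [f', f]) (by rintro (_ | _); exacts [hZ', hZ])
    (by rintro (_ | _); exacts [p', p])
  rw [JB_pair, ← h.ML_eq] at h1
  refine ⟨A, h1, by rw [h.WH_eq]; exact h2, ?_⟩
  rcases i with _ | _
  · exact Or.inr h3
  · exact Or.inl h3

end pair

end Cfsg.Agent.Omega.NOThreeL.HypGFrame.LocG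

end

section


/-!
# The blocks of `V` for a panel, in any module `U` (3L-T, GammaFF (S4))

`V ≤ U` elementary abelian, `H ≤ N_G(U)`, `M₀ ≤ H`, `F ≤ V`.

* `BlkIn S V M₀ F hH hU` : the blocks `Blk0` of `V` with flat `F` in the module `U`;
* `blkIn_of_mx` : from the M-side frame `MX`;
* `PanSys S V M₀ F U H` : a family of panels with flats `F i`; panel `i` has its blocks in `U i`, and for `i`, `j` one
  of them has its blocks in some `U' ≥ U i, U j`.
-/

set_option autoImplicit false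

namespace Cfsg.Agent.Omega.NO3b.BasePt

open Subgroup Cfsg
open Cfsg.Agent.ZN.ChoiceBase hiding mem_zc
open Cfsg.Agent.Omega.NO3b.Exit.Bridge
open Cfsg.Agent.Omega.NO3b.Exit (LocBar.im_mono LocBar.isPGroup_im LocBar.syl_im)
open Cfsg.Agent.Omega.NO3b.Exit.TDat (MX sbc FFq ncl KV)
open Cfsg.Agent.Omega.NO3b.Exit.BlkZ (Blk0)
open Cfsg.Agent.Omega.NO3b.Exit.TBlk (sn_sbc_of_le)
open Cfsg.Agent.Omega.FFBr (XX im)
open Cfsg.Agent.Omega.FF.Basic (fx)
open scoped Pointwise

universe u v w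

/-- The plug `MX → Blk0`. -/
theorem blk0_of_mx {Γ : Type u} {U : Type v} [Group Γ] [Finite Γ] [AddCommGroup U] [DistribMulAction Γ U]
    {M X D A : Subgroup Γ} {V F : AddSubgroup U} {g : Γ} (h : MX M X D A V F g) {S : Subgroup Γ} (SM : S ≤ M)
    (S2 : IsPGroup 2 S) (syl : ¬ 2 ∣ S.relIndex M) :
    Blk0 (sbc M (FFq M F)) (FFq M F) (ncl (KV M V h.MV) A) V F (g • V) (fx U A) g⁻¹ M (KV M V h.MV) S where
  dat := h.dat
  KM := fun _ hk => hk.1
  nK := fun _ hm _ hk => h.KV_norm hm hk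
  mV := h.MV
  kV := fun _ hk => hk.2
  kB := fun _ hk _ hb => NO3b.Exit.TDat.ncl_conj hk hb
  sn := sn_sbc_of_le MX.FFq_le_M h.sbc_le_KV fun _ hk => hk.1
  SM := SM
  S2 := S2
  syl := syl

variable {G : Type u} [Group G]

/-- The blocks of `V` for the panel with flat `F`, in the module `U`. -/
def BlkIn (S V M₀ F : Subgroup G) {U H : Subgroup G} (hH : H ≤ normalizer (U : Set G))
    (hU : U ≤ centralizer (U : Set G)) : Prop :=
  ∃ (BB : Subgroup (XX hH)) (Lw C : AddSubgroup (MU hU)) (x : XX hH)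
    (hV : ∀ m ∈ im hH M₀, ∀ v ∈ ad hU V, m • v ∈ ad hU V),
    Blk0 (sbc (im hH M₀) (FFq (im hH M₀) (ad hU F))) (FFq (im hH M₀) (ad hU F)) BB (ad hU V) (ad hU F) Lw C x
      (im hH M₀) (KV (im hH M₀) (ad hU V) hV) (im hH S)

/-- `MX` gives the blocks -/
theorem blkIn_of_mx [Finite G] {S V M₀ F : Subgroup G} {U H : Subgroup G} {hH : H ≤ normalizer (U : Set G)}
    {hU : U ≤ centralizer (U : Set G)} {X D A : Subgroup (XX hH)} {g : XX hH}
    (m : MX (im hH M₀) X D A (ad hU V) (ad hU F) g) (SM : S ≤ M₀) (S2 : IsPGroup 2 S)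
    (syl : ¬ 2 ∣ (im hH S).relIndex (im hH M₀)) : BlkIn S V M₀ F hH hU :=
  ⟨_, _, _, _, m.MV, blk0_of_mx m (LocBar.im_mono _ SM) (LocBar.isPGroup_im _ S2) syl⟩

/-- A family of panels of `V`: panel `i` has flat `F i` and its blocks in `U i`; for `i`, `j` one of them has its
blocks in a module which contains `U i`, `U j`. -/
structure PanSys (S V M₀ : Subgroup G) {ι : Type w} (F U H : ι → Subgroup G) : Prop where
  hH : ∀ i, H i ≤ normalizer (U i : Set G)
  hU : ∀ i, U i ≤ centralizer (U i : Set G)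
  VU : ∀ i, V ≤ U i
  MH : ∀ i, M₀ ≤ H i
  FV : ∀ i, F i ≤ V
  one : ∀ i, BlkIn S V M₀ (F i) (hH i) (hU i)
  two : ∀ i j, ∃ (U' H' : Subgroup G) (hH' : H' ≤ normalizer (U' : Set G)) (hU' : U' ≤ centralizer (U' : Set G)),
    U i ≤ U' ∧ U j ≤ U' ∧ M₀ ≤ H' ∧ (BlkIn S V M₀ (F i) hH' hU' ∨ BlkIn S V M₀ (F j) hH' hU')

end Cfsg.Agent.Omega.NO3b.BasePt

end
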