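import Cfsg.Agent.Mrg.Omega.NO3b.K0.Mix.Pan
import Cfsg.Agent.Mrg.Omega.NOne.Flat.Off
import Cfsg.Agent.Mrg.Omega.NOne.LemmaT
import Cfsg.Agent.Mrg.Omega.NO3b.EZeroBase

section


/-!
# THEOREM BETA2 (bb #20914), part 1: the frame, the gallery

`Pan V F T X L Q0` a panel with `NoOv X`, `SM V X`, `Two V X`; `Flat.Hyp V' F₁`, `W = WW V' F₁ ≤ Q0`, `W ≰ O₂(X)`,
`⟨V^X⟩ ≤ V'`, the lines are good (`Bt`).

* `comm_of_le` : THE MUTUAL PAIR (K0P);
* `Bt.le_E` (G1) : a line in `V'` which meets `F₁` is in `E = EE V' F₁`;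
* `BB V X F₁ = ⟨U^y | y ∈ C_G(F₁)⟩`, `U = ⟨V^X⟩`; `Bt.B_comm`, `Bt.B_le_W` (1);
* `Bt.exists_gal` (2) : the critical panel `X^h`.
-/

set_option autoImplicit false

namespace Cfsg.Agent.Omega.NO3b.BetaTwo

open Subgroup Cfsg Cfsg.Agent.ZN Cfsg.Agent.ZN.ChoiceBase
open Cfsg.Agent.ZN.ChoiceSit (Syl exists_syl syl_conj o2_le_syl)
open Cfsg.Agent.MinSimple.VModule (oddGen)
open Cfsg.Agent.Omega.NO3b.EZero
open Cfsg.Agent.Omega.NO3b.K0 (NoOv cj_of_le cj_self cj_bot')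
open Cfsg.Agent.Omega.NO3b.K0.Mix (Pan SM Two Crit)
open Cfsg.Agent.Omega.NOne.Flat (EE WW NN Bad)
open Cfsg.Agent.Omega.NOne.NearFF (c)

universe u

variable {G : Type u} [Group G]

/-- no over-offenders in `X` on `⟨V^X⟩` -/
def NoOver (V X : Subgroup G) : Prop :=
  ∀ A : Subgroup G, A ≤ X → (∀ a ∈ A, a ^ 2 ∈ centralizer (cl V X : Set G)) →
    (∀ a ∈ A, ∀ b ∈ A, a * b * a⁻¹ * b⁻¹ ∈ centralizer (cl V X : Set G)) →
      (centralizer (cl V X : Set G)).relIndex A ≤ (centralizer (A : Set G)).relIndex (cl V X)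

/-- The frame. -/
structure Bt [Finite G] (V F T X L Q0 V' F₁ : Subgroup G) : Prop where
  pan : Pan V F T X L Q0
  noov : NoOv X
  sm : SM V X
  two : Two V X
  hno : NoOver V X
  hy : NOne.Flat.Hyp V' F₁
  hoff : ∀ E0 : Subgroup G, F₁ ≤ E0 → E0 ≤ EE V' F₁ →
    F₁.relIndex E0 ≤ (centralizer (E0 : Set G)).relIndex (WW V' F₁)
  good : ∀ (g : G) (D : Subgroup G), D ≤ cj g V → D ≠ ⊥ → cj g V ≤ o2 (centralizer (D : Set G))
  WQ : WW V' F₁ ≤ Q0
  WX : ¬ WW V' F₁ ≤ o2 X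
  UV : cl V X ≤ V'

/-- `B = ⟨U^y | y ∈ C_G(F₁)⟩` -/
def BB (V X F₁ : Subgroup G) : Subgroup G := cl (cl V X) (centralizer (F₁ : Set G))

/-! ### (K0P) -/

section pair

variable [Finite G] {V F T X L Q0 : Subgroup G} (p : Pan V F T X L Q0) (hX : NoOv X) (hs : SM V X) (h2 : Two V X)
include p hX hs h2

theorem crit_false {g : G} (k : Crit V X X Q0 g) : False := by
  have h3 := k.two_mul_le p p hX h2 hs hs
  have h4 := k.inv.two_mul_le p p hX h2 hs hs
  have e1 : (o2 X).relIndex (cj g⁻¹ (cl V X)) = (cj g (o2 X)).relIndex (cl V X) := by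
    rw [← relIndex_cj g, cj_cj_inv]
  have e2 : (cj g⁻¹ (o2 X)).relIndex (cl V X) = (o2 X).relIndex (cj g (cl V X)) := by
    rw [← relIndex_cj g, cj_cj_inv]
  rw [e1, e2] at h4
  have h5 : 0 < (o2 X).relIndex (cj g (cl V X)) := Nat.pos_of_ne_zero index_ne_zero_of_finite
  omega

/-- **(K0P)** -/
theorem comm_of_le {a b : G} (h1 : cj a (cl V X) ≤ cj b Q0) (h3 : cj b (cl V X) ≤ cj a Q0) :
    cj a (cl V X) ≤ centralizer ((cj b (cl V X) : Subgroup G) : Set G) := by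
  by_contra hcon
  refine crit_false p hX hs h2 (g := a⁻¹ * b) ⟨fun h0 => hcon ?_, ?_, ?_⟩
  · have h4 := cj_cent (g := a) h0
    rwa [cj_cj, mul_inv_cancel_left] at h4
  · rw [← cj_cj, ← cj_le_iff]
    exact h1
  · rw [← cj_cj, cj_le_iff, inv_inv]
    exact h3

end pair

namespace Bt

variable [Finite G] {V F T X L Q0 V' F₁ : Subgroup G} (t : Bt V F T X L Q0 V' F₁)
include t

/-- `V ≤ F₁` -/
theorem V_le_F₁ : V ≤ F₁ := by
  rw [← t.hy.cent_VW]
  exact le_inf ((le_cl V X).trans t.UV) (cent_symm (t.WQ.trans t.pan.Q0_cent))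

omit [Finite G] t in
theorem conj_W' {y : G} (hy : y ∈ centralizer (F₁ : Set G)) : cj y (WW V' F₁) = WW V' F₁ :=
  NOne.Flat.Hyp.conj_W hy

omit [Finite G] t in
theorem conjE_le_W' {y : G} (hy : y ∈ centralizer (F₁ : Set G)) : cj y (EE V' F₁) ≤ WW V' F₁ :=
  NOne.Flat.Hyp.conjE_le_W hy

theorem V'_le_X' : V' ≤ centralizer (F₁ : Set G) := t.hy.V_le_X

/-- **(G1)** a line in `V'` which meets `F₁` is in `E`. -/
theorem le_E {g : G} (h1 : cj g V ≤ V') (h2 : cj g V ⊓ F₁ ≠ ⊥) : cj g V ≤ EE V' F₁ := by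
  refine le_inf h1 ?_
  set R := o2 (centralizer ((cj g V ⊓ F₁ : Subgroup G) : Set G)) with hR
  have h3 : cj g V ≤ R := t.good g _ inf_le_left h2
  have h4 : centralizer (F₁ : Set G) ≤ centralizer ((cj g V ⊓ F₁ : Subgroup G) : Set G) :=
    centralizer_le inf_le_right
  have h5 : R ⊓ centralizer (F₁ : Set G) ≤ o2 (centralizer (F₁ : Set G)) := by
    refine ChoiceSit.le_o2 ((ChoiceSit.isPGroup_o2 _).to_le inf_le_left) inf_le_right ?_
    intro x hx
    rw [mem_normalizer_iff_cj, cj_inf, cj_eq_of_mem_normalizer (Subgroup.le_normalizer hx),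
      cj_eq_of_mem_normalizer (ChoiceSit.le_normalizer_o2 _ (h4 hx))]
  exact (le_inf h3 (h1.trans t.V'_le_X')).trans h5

/-- the lines on `X` are in `E` -/
theorem line_le_E {x : G} (hx : x ∈ X) : cj x V ≤ EE V' F₁ := by
  refine t.le_E ((cj_le_cl hx).trans t.UV) fun h0 => t.pan.F_ne_bot ?_
  rw [← le_bot_iff, ← h0]
  exact le_inf (t.pan.F_le_line hx) (t.pan.F_le.trans t.V_le_F₁)

theorem U_le_E : cl V X ≤ EE V' F₁ := cl_le fun _ hx => t.line_le_E hx

theorem U_le_W : cl V X ≤ WW V' F₁ := t.U_le_E.trans NOne.Flat.Hyp.E_le_W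

theorem cjU_le_W {y : G} (hy : y ∈ centralizer (F₁ : Set G)) : cj y (cl V X) ≤ WW V' F₁ :=
  (cj_mono y t.U_le_E).trans (conjE_le_W' hy)

/-- `W ≤ Q0^y` -/
theorem W_le_cj {y : G} (hy : y ∈ centralizer (F₁ : Set G)) : WW V' F₁ ≤ cj y Q0 := by
  have h1 := cj_mono y t.WQ
  rwa [conj_W' hy] at h1

/-! ### (1) -/

theorem cjU_comm {y z : G} (hy : y ∈ centralizer (F₁ : Set G)) (hz : z ∈ centralizer (F₁ : Set G)) :
    cj y (cl V X) ≤ centralizer ((cj z (cl V X) : Subgroup G) : Set G) :=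
  comm_of_le t.pan t.noov t.sm t.two ((t.cjU_le_W hy).trans (t.W_le_cj hz)) ((t.cjU_le_W hz).trans (t.W_le_cj hy))

theorem B_comm : BB V X F₁ ≤ centralizer (BB V X F₁ : Set G) :=
  cl_le fun _ hy => cent_symm (cl_le fun _ hz => t.cjU_comm hz hy)

theorem B_le_W : BB V X F₁ ≤ WW V' F₁ := cl_le fun _ hy => t.cjU_le_W hy

omit [Finite G] t in
theorem X'_norm_B : centralizer (F₁ : Set G) ≤ normalizer (BB V X F₁ : Set G) := le_normalizer_cl _ _

omit [Finite G] t in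
theorem U_le_B : cl V X ≤ BB V X F₁ := le_cl _ _

theorem cjU_sq (y : G) : ∀ u ∈ cj y (cl V X), u ^ 2 = 1 := by
  intro v hv
  have h1 := t.pan.U_sq _ (mem_cj.1 hv)
  have e : v ^ 2 = y * (y⁻¹ * v * y) ^ 2 * y⁻¹ := by rw [pow_two, pow_two]; group
  rw [e, h1]; group

theorem B_sq : ∀ b ∈ BB V X F₁, b ^ 2 = 1 :=
  sq_of_comm t.B_comm (fun i : centralizer (F₁ : Set G) => cj_le_cl i.2) le_rfl fun i => t.cjU_sq i

theorem isPGroup_B : IsPGroup 2 (BB V X F₁) := fun x => ⟨1, Subtype.ext (by simpa using t.B_sq x x.2)⟩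

/-! ### (2) -/

/-- the step of the gallery -/
theorem gal_step {h : G} (hB : BB V X F₁ ≤ cj h Q0) (hE : cj h (cl V X) ≤ EE V' F₁) {x : G} (hx : x ∈ X) :
    BB V X F₁ ≤ cj (h * x) Q0 := by
  have h1 : BB V X F₁ ≤ centralizer ((cj h (cl V X) : Subgroup G) : Set G) := by
    refine cl_le fun y hy => ?_
    exact comm_of_le t.pan t.noov t.sm t.two ((cj_le_cl hy).trans hB)
      ((hE.trans NOne.Flat.Hyp.E_le_W).trans (t.W_le_cj hy))
  have h2 : BB V X F₁ ≤ cj h (o2 X) := t.pan.le_cj_o2 t.isPGroup_B (hB.trans (cj_mono h t.pan.Q0_X)) h1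
  have h3 : cj h (o2 X) = cj (h * x) (o2 X) := by
    rw [← cj_cj, cj_of_le (ChoiceSit.le_normalizer_o2 X) hx]
  rw [h3] at h2
  refine t.pan.le_cj_Q0_of t.isPGroup_B (h2.trans (cj_mono _ (t.pan.o2_le_T.trans t.pan.T_le))) ?_
  refine h1.trans (centralizer_le ?_)
  rw [← cj_cj]
  exact cj_mono h (cj_le_cl hx)

/-- **(2)** the critical panel -/
theorem exists_gal {H : Subgroup G} (hH : H ≤ L ⊔ X) (hLH : L ≤ H) (hXH : X ≤ H)
    (hE : ¬ cl V H ≤ EE V' F₁) :
    ∃ h ∈ H, BB V X F₁ ≤ cj h Q0 ∧ ¬ cj h (cl V X) ≤ EE V' F₁ := by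
  by_contra hcon
  push Not at hcon
  apply hE
  have h0 : BB V X F₁ ≤ cj 1 Q0 := by
    rw [cj_one]; exact t.B_le_W.trans t.WQ
  have key : ∀ h ∈ H, BB V X F₁ ≤ cj h Q0 := by
    intro h hh
    have hh' := hH hh
    have hcl : L ⊔ X = closure ((L : Set G) ∪ (X : Set G)) := by
      rw [Subgroup.closure_union, closure_eq, closure_eq]
    rw [hcl] at hh'
    have h1 : h ∈ H ∧ BB V X F₁ ≤ cj h Q0 := by
      induction hh' using Subgroup.closure_induction_right with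
      | one => exact ⟨one_mem _, h0⟩
      | mul_right a _ b hb ih =>
        have ih' := ih (by
          rcases hb with hb | hb
          · have := mul_mem hh (inv_mem (hLH hb))
            rwa [mul_inv_cancel_right] at this
          · have := mul_mem hh (inv_mem (hXH hb))
            rwa [mul_inv_cancel_right] at this)
        refine ⟨hh, ?_⟩
        rcases hb with hb | hb
        · rw [← cj_cj, t.pan.cj_Q0 hb]
          exact ih'.2
        · exact t.gal_step ih'.2 (hcon a ih'.1 ih'.2) hb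
      | mul_inv_cancel a _ b hb ih =>
        have ih' := ih (by
          rcases hb with hb | hb
          · have := mul_mem hh (hLH hb)
            rwa [inv_mul_cancel_right] at this
          · have := mul_mem hh (hXH hb)
            rwa [inv_mul_cancel_right] at this)
        refine ⟨hh, ?_⟩
        rcases hb with hb | hb
        · rw [← cj_cj, t.pan.cj_Q0 (inv_mem hb)]
          exact ih'.2
        · exact t.gal_step ih'.2 (hcon a ih'.1 ih'.2) (inv_mem hb)
    exact h1.2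
  exact cl_le fun h hh => (cj_mono h (le_cl V X)).trans (hcon h hh (key h hh))

end Bt

end Cfsg.Agent.Omega.NO3b.BetaTwo

end

section


/-!
# THEOREM BETA2 (#20914, helper235), (3) and (4)

The situation of THEOREM FLAT: `Hyp V F` (`V` of the text: `V'`, `F`: `F₁`), `E = EE V F`, `W = WW V F`, `N = NN V F`,
`X = C_G(F)`.  `B ≤ W` is normal in `X` (`BN V F B`), `A₀ = V ∩ B`.

* `BN.c_mem` : `[V, B] ≤ A₀`; `BN.A_le_E`;
* `BN.relIndex_eq` : **(3)** `|B : B ∩ N| = |A₀ : A₀ ∩ F|`; `BN.surj` : `[w, B] F = A₀ F` for every `w ∈ V - E`;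
* `BN.no_line` : **(4)** a subgroup `l ≤ V`, `l ≰ E`, `l ∩ F = 1`, which is not FF, is not normalised by `B`, if
  `B ≰ N` is elementary abelian.
-/

set_option autoImplicit false

namespace Cfsg.Agent.Omega.NO3b.BetaTwo

open Subgroup Cfsg
open Cfsg.Agent.ZN (o2)
open Cfsg.Agent.Omega.NOne.Flat Cfsg.Agent.Omega.NoFF.Basic Cfsg.Agent.Omega.NOne.Frame
open Cfsg.Agent.Omega.NOne.NearFF (c)
open Cfsg.Agent.Omega.NO3b.EZero (NotFF)
open scoped Pointwise

universe u

variable {G : Type u} [Group G]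

/-- `B ≤ W` is normal in `C_G(F)`. -/
structure BN (V F B : Subgroup G) : Prop where
  le : B ≤ WW V F
  norm : centralizer (F : Set G) ≤ normalizer (B : Set G)

namespace BN

variable {V F B : Subgroup G} (b : BN V F B) (h : Hyp V F)
include b h

/-- `[V, B] ≤ A₀` -/
theorem c_mem {w s : G} (hw : w ∈ V) (hs : s ∈ B) : c w s ∈ V ⊓ B := by
  refine ⟨h.c_memV hw (b.le hs), ?_⟩
  have h1 : w * s * w⁻¹ ∈ B := (mem_normalizer_iff.1 (b.norm (h.V_le_X hw)) s).1 hs
  exact B.mul_mem h1 (B.inv_mem hs)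

omit h in
theorem A_le_E : V ⊓ B ≤ EE V F := le_inf inf_le_left (inf_le_right.trans (b.le.trans Hyp.W_le_R))

variable [Finite G]

/-- `s ↦ [w, s]` -/
theorem cos {w : G} (hw : w ∈ V) (hwE : w ∉ EE V F) : Cos (c w) B (NN V F) (V ⊓ B) F where
  mem := fun _ hs => b.c_mem h hw hs
  iff := fun a ha s hs => by
    rw [h.c_iff hw (b.le ha) (b.le hs), h.c_mem_F_iff hw hwE (mul_mem (inv_mem (b.le ha)) (b.le hs))]

/-- `|A₀ : A₀ ∩ F| ≤ |B : B ∩ N|` -/
theorem le_relIndex : F.relIndex (V ⊓ B) ≤ (NN V F).relIndex B := by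
  obtain ⟨w, hw, hwE⟩ := h.exists_not_mem
  obtain ⟨x, hx, hb, -⟩ := h.exists_near hw hwE
  have h1 : MulAut.conj x • (V ⊓ B) ≤ B := by
    intro y hy
    rw [mem_conj] at hy
    have h2 := (mem_normalizer_iff.1 (b.norm hx) _).1 hy.2
    have e : x * (x⁻¹ * y * x) * x⁻¹ = y := by group
    rwa [e] at h2
  have h2 : NN V F ⊓ MulAut.conj x • (V ⊓ B) ≤ F :=
    le_trans (le_inf (inf_le_right.trans (conj_le_iff.2 b.A_le_E)) inf_le_left) (h.conjE_inf_NN hx hb).le
  have h3 : F.relIndex (MulAut.conj x • (V ⊓ B)) = F.relIndex (V ⊓ B) := by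
    have h4 : (MulAut.conj x • F).relIndex (MulAut.conj x • (V ⊓ B)) = F.relIndex (V ⊓ B) :=
      relIndex_map_map_of_injective F (V ⊓ B) (MulAut.conj x).injective
    rwa [conj_eq_of_cent hx] at h4
  calc F.relIndex (V ⊓ B) = F.relIndex (MulAut.conj x • (V ⊓ B)) := h3.symm
    _ ≤ (NN V F ⊓ MulAut.conj x • (V ⊓ B)).relIndex (MulAut.conj x • (V ⊓ B)) :=
      relIndex_le_of_le_left h2 index_ne_zero_of_finite
    _ = (NN V F).relIndex (MulAut.conj x • (V ⊓ B)) := inf_relIndex_right _ _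
    _ ≤ (NN V F).relIndex B := relIndex_le_of_le_right h1 index_ne_zero_of_finite

/-- **(3)** `|B : B ∩ N| = |A₀ : A₀ ∩ F|` -/
theorem relIndex_eq : (NN V F).relIndex B = F.relIndex (V ⊓ B) := by
  obtain ⟨w, hw, hwE⟩ := h.exists_not_mem
  exact le_antisymm (b.cos h hw hwE).le (b.le_relIndex h)

/-- **(3)** `[w, B] F = A₀ F` for `w ∈ V - E` -/
theorem surj {w : G} (hw : w ∈ V) (hwE : w ∉ EE V F) {r : G} (hr : r ∈ V ⊓ B) :
    ∃ s ∈ B, (c w s)⁻¹ * r ∈ F := (b.cos h hw hwE).surj (b.le_relIndex h) hr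

/-- `w ↦ [w, s]` for `s ∈ B - N`, on `l ≤ V` -/
theorem cos' {l : Subgroup G} (hl : l ≤ V) {s : G} (hs : s ∈ B) (hsN : s ∉ NN V F) :
    Cos (fun w => c w s) l (EE V F) (V ⊓ B) F where
  mem := fun _ hw => b.c_mem h (hl hw) hs
  iff := fun w hw w' hw' => by
    have h1 : (c w s)⁻¹ * c w' s = c (w⁻¹ * w') s := by
      rw [h.c_mul_left (inv_mem (hl hw)) (hl hw') (b.le hs), h.inv (hl hw), h.inv (h.c_memV (hl hw) (b.le hs))]
    rw [h1]
    have hm : w⁻¹ * w' ∈ V := hl (mul_mem (inv_mem hw) hw')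
    constructor
    · intro h2
      by_contra h3
      exact hsN ((h.c_mem_F_iff hm h3 (b.le hs)).1 h2)
    · exact fun h2 => h.comm_EW h2 (b.le hs)

/-- `|l : l ∩ E| ≤ |A₀ : A₀ ∩ F|` for `l ≤ V` -/
theorem relIndex_le {l : Subgroup G} (hl : l ≤ V) (hBN : ¬ B ≤ NN V F) :
    (EE V F).relIndex l ≤ F.relIndex (V ⊓ B) := by
  obtain ⟨s, hs, hsN⟩ := SetLike.not_le_iff_exists.1 hBN
  exact (b.cos' h hl hs hsN).le

/-- **(4)** a subgroup `l ≤ V`, `l ≰ E`, `l ∩ F = 1`, not FF, is not normalised by `B`. -/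
theorem no_line {l : Subgroup G} (hl : l ≤ V) (hlE : ¬ l ≤ EE V F) (hlF : l ⊓ F = ⊥) (hnff : NotFF l)
    (hBN : ¬ B ≤ NN V F) (hB2 : ∀ s ∈ B, s ^ 2 = 1) (hBc : B ≤ centralizer (B : Set G)) :
    ¬ B ≤ normalizer (l : Set G) := by
  intro hn
  -- `[w, s] ∈ l`
  have hcl : ∀ w ∈ l, ∀ s ∈ B, c w s ∈ l := by
    intro w hw s hs
    have h1 : s * w⁻¹ * s⁻¹ ∈ l := (mem_normalizer_iff.1 (hn hs) _).1 (inv_mem hw)
    have e : c w s = w * (s * w⁻¹ * s⁻¹) := by rw [c]; group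
    rw [e]
    exact mul_mem hw h1
  have hone : ∀ {w s : G}, c w s = 1 → w * s = s * w := by
    intro w s h1
    rw [c] at h1
    exact mul_inv_eq_iff_eq_mul.1 (mul_inv_eq_one.1 h1)
  have hlF' : ∀ x ∈ l, x ∈ F → x = 1 := by
    intro x hx hxF
    have h1 : x ∈ l ⊓ F := ⟨hx, hxF⟩
    rwa [hlF, mem_bot] at h1
  -- `C_B(l) ≤ N`
  have h1 : centralizer (l : Set G) ⊓ B ≤ NN V F := by
    rintro s ⟨hs1, hs2⟩
    obtain ⟨w, hw, hwE⟩ := SetLike.not_le_iff_exists.1 hlE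
    refine (h.c_mem_F_iff (hl hw) hwE (b.le hs2)).1 ?_
    have h2 : c w s = 1 := by
      rw [c, mem_centralizer_iff.1 hs1 w hw, mul_inv_cancel_right, mul_inv_cancel]
    rw [h2]
    exact one_mem _
  have hBl : ¬ B ≤ centralizer (l : Set G) := fun h2 => hBN ((le_inf h2 le_rfl).trans h1)
  have hP : IsPGroup 2 B := fun x => ⟨1, Subtype.ext (by simpa using hB2 x x.2)⟩
  have h2 := hnff B hP hn (fun s hs => by rw [hB2 s hs]; exact one_mem _) (fun s hs t ht => by
    have e : s * t = t * s := (mem_centralizer_iff.1 (hBc hs) t ht).symm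
    rw [e, mul_inv_cancel_right, mul_inv_cancel]; exact one_mem _) hBl
  have h3 : (centralizer (B : Set G)).relIndex l ≤ (EE V F).relIndex l := by
    rw [← inf_relIndex_right (EE V F), ← inf_relIndex_right (centralizer (B : Set G))]
    refine relIndex_le_of_le_left (le_inf ?_ inf_le_right) index_ne_zero_of_finite
    rintro w ⟨hwE, hwl⟩
    rw [mem_centralizer_iff]
    intro s hs
    exact (hone (hlF' _ (hcl w hwl s hs) (h.comm_EW hwE (b.le hs)))).symm
  have h4 : (NN V F).relIndex B ≤ (centralizer (l : Set G)).relIndex B := by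
    rw [← inf_relIndex_right (centralizer (l : Set G)), ← inf_relIndex_right (NN V F)]
    exact relIndex_le_of_le_left (le_inf h1 inf_le_right) index_ne_zero_of_finite
  have h5 := b.relIndex_le h hl hBN
  have h6 := b.le_relIndex h
  omega

end BN

/-! ### the frame `Bt` -/

namespace Bt

open Cfsg.Agent.ZN.ChoiceBase (cj cj_cj cj_mono)
open Cfsg.Agent.Omega.NO3b.EZero
open Cfsg.Agent.Omega.NO3b.K0 (cj_of_le)

variable [Finite G] {V F T X L Q0 V' F₁ : Subgroup G} (t : Bt V F T X L Q0 V' F₁)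
include t

theorem bn : BN V' F₁ (BB V X F₁) := ⟨t.B_le_W, X'_norm_B⟩

/-- **(3)** -/
theorem exists_B {w : G} (hw : w ∈ V') (hwE : w ∉ EE V' F₁) {r : G} (hr : r ∈ V' ⊓ BB V X F₁) :
    ∃ b ∈ BB V X F₁, c w b * r⁻¹ ∈ F₁ := by
  obtain ⟨s, hs, h1⟩ := t.bn.surj t.hy hw hwE hr
  refine ⟨s, hs, ?_⟩
  rwa [t.hy.inv (t.hy.c_memV hw (t.B_le_W hs)), ← t.hy.inv hr.1] at h1

/-- **(3)** -/
theorem relIndex_B : (NN V' F₁).relIndex (BB V X F₁) = F₁.relIndex (V' ⊓ BB V X F₁) := t.bn.relIndex_eq t.hy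

theorem B_nle : ¬ BB V X F₁ ≤ NN V' F₁ := by
  intro h0
  have h1 := t.relIndex_B
  rw [relIndex_eq_one.2 h0] at h1
  have h2 : V' ⊓ BB V X F₁ ≤ F₁ := relIndex_eq_one.1 h1.symm
  have h3 : cl V X ≤ F₁ := (le_inf t.UV U_le_B).trans h2
  have h4 : WW V' F₁ ≤ centralizer (cl V X : Set G) :=
    NOne.Flat.Hyp.W_le_X.trans (centralizer_le h3)
  exact t.WX (t.pan.le_o2_of_cent_U NOne.Flat.Hyp.W_isPGroup (t.WQ.trans t.pan.Q0_X) h4)

/-- **(4)** -/
theorem line {h : G} (_hB : BB V X F₁ ≤ cj h Q0) (hU : cj h (cl V X) ≤ V') {x : G} (hx : x ∈ X)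
    (hn : BB V X F₁ ≤ normalizer ((cj (h * x) V : Subgroup G) : Set G)) :
    BB V X F₁ ≤ centralizer ((cj (h * x) V : Subgroup G) : Set G) := by
  have h1 : cj (h * x) V ≤ V' := by
    rw [← cj_cj]
    exact (cj_mono h (cj_le_cl hx)).trans hU
  by_cases hE : cj (h * x) V ≤ EE V' F₁
  · refine cl_le fun y hy => ?_
    have h2 : cl V X ≤ centralizer ((cj (y⁻¹ * (h * x)) V : Subgroup G) : Set G) := by
      refine cent_symm (t.sm (y⁻¹ * (h * x)) ?_ ?_)
      · rw [← cj_cj]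
        exact ((cj_mono _ hE).trans (conjE_le_W' (inv_mem hy))).trans (t.WQ.trans t.pan.Q0_X)
      · have h3 := cj_norm (g := y⁻¹) hn
        rw [cj_of_le X'_norm_B (inv_mem hy), cj_cj] at h3
        exact U_le_B.trans h3
    have h3 := cj_cent (g := y) h2
    rwa [cj_cj, mul_inv_cancel_left] at h3
  · have hF : cj (h * x) V ⊓ F₁ = ⊥ := by
      by_contra h2
      exact hE (t.le_E h1 h2)
    exact absurd hn (t.bn.no_line t.hy h1 hE hF (t.pan.nff.cj _) t.B_nle t.B_sq t.B_comm)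

end Bt

end Cfsg.Agent.Omega.NO3b.BetaTwo

end

section


/-!
# THEOREM BETA2 (bb #20914), step (5): the count

* `step_prod` : the stepwise product: if `|D : C_D(Y_i)| ≤ |Y_i : C_{Y_i}(D)|` for all `D ≤ E` and `B = ⟨Y_i⟩`, then
  `|E : C_E(B)| ≤ |B : C_B(E)|`;
* `Bt.comm_mem_F` : `[U^h, B ∩ Q^h] ≤ F^h`;
* `Bt.two_le` : `|B : B ∩ Q^h|² ≤ |U^h : C(B)|`;
* **`Bt.count`** : `2 |B : B ∩ N| ≤ |V' : E|²`.
-/

set_option autoImplicit false

namespace Cfsg.Agent.Omega.NO3b.BetaTwo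

open Subgroup Cfsg Cfsg.Agent.ZN Cfsg.Agent.ZN.ChoiceBase
open Cfsg.Agent.ZN.ChoiceSit (Syl exists_syl syl_conj o2_le_syl)
open Cfsg.Agent.MinSimple.VModule (oddGen)
open Cfsg.Agent.Omega.NO3b.EZero
open Cfsg.Agent.Omega.NO3b.K0 (NoOv cj_of_le cj_self cj_bot' two_mul_le_of_lt two_le_of_ne cent_sup conj_mem')
open Cfsg.Agent.Omega.NO3b.K0.Mix (Pan SM Two Crit)
open Cfsg.Agent.Omega.NOne.Flat (EE WW NN Bad)
open Cfsg.Agent.Omega.NOne.NearFF (c c_def)
open scoped commutatorElement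

universe u v

variable {G : Type u} [Group G]

/-- **the stepwise product** -/
theorem step_prod [Finite G] {ι : Type v} {Y : ι → Subgroup G} {B E : Subgroup G} (hgen : B ≤ ⨆ i, Y i)
    (hYB : ∀ i, Y i ≤ B)
    (hno : ∀ i, ∀ D : Subgroup G, D ≤ E →
      (centralizer (Y i : Set G)).relIndex D ≤ (centralizer (D : Set G)).relIndex (Y i)) :
    (centralizer (B : Set G)).relIndex E ≤ (centralizer (E : Set G)).relIndex B := by
  let P : Subgroup G → Prop := fun K => B ⊓ centralizer (E : Set G) ≤ K ∧ K ≤ B ∧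
    (centralizer (K : Set G)).relIndex E ≤ (B ⊓ centralizer (E : Set G)).relIndex K
  have hP0 : P (B ⊓ centralizer (E : Set G)) := by
    refine ⟨le_rfl, inf_le_left, ?_⟩
    rw [relIndex_self, relIndex_eq_one.2 (cent_symm inf_le_right)]
  obtain ⟨K, hK, hmax⟩ := Set.exists_max_image {K : Subgroup G | P K} (fun K => Nat.card K)
    (Set.toFinite _) ⟨_, hP0⟩
  obtain ⟨hK1, hK2, hK3⟩ : P K := hK
  have hKB : B ≤ K := by
    refine hgen.trans (iSup_le fun i => ?_)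
    have hPK : P (K ⊔ Y i) := by
      refine ⟨hK1.trans le_sup_left, sup_le hK2 (hYB i), ?_⟩
      rw [cent_sup, ← relIndex_inf_mul_relIndex]
      have h1 := hno i (centralizer (K : Set G) ⊓ E) inf_le_right
      have h2 : (centralizer ((centralizer (K : Set G) ⊓ E : Subgroup G) : Set G)).relIndex (Y i) ≤
          K.relIndex (K ⊔ Y i) := by
        refine le_trans (relIndex_le_of_le_left (H := K) ?_ index_ne_zero_of_finite)
          (relIndex_le_of_le_right le_sup_right index_ne_zero_of_finite)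
        exact cent_symm inf_le_left
      have h3 := relIndex_mul_relIndex (B ⊓ centralizer (E : Set G)) K (K ⊔ Y i) hK1 le_sup_left
      rw [← h3, mul_comm ((B ⊓ centralizer (E : Set G)).relIndex K)]
      exact Nat.mul_le_mul (h1.trans h2) hK3
    have h4 := hmax _ hPK
    have h5 : K = K ⊔ Y i := eq_of_le_of_card_ge le_sup_left h4
    exact le_sup_right.trans h5.ge
  have h6 : K = B := le_antisymm hK2 hKB
  rw [h6, inf_relIndex_left] at hK3
  exact hK3

theorem cj_cents (g : G) (A : Subgroup G) :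
    cj g (centralizer (A : Set G)) = centralizer ((cj g A : Subgroup G) : Set G) := by
  apply le_antisymm
  · exact cj_cent le_rfl
  · have h1 : cj g⁻¹ (centralizer ((cj g A : Subgroup G) : Set G)) ≤ centralizer (A : Set G) := by
      have := cj_cent (g := g⁻¹) (A := centralizer ((cj g A : Subgroup G) : Set G)) (B := cj g A) le_rfl
      rwa [cj_inv_cj] at this
    rw [cj_le_iff, inv_inv] at h1
    exact h1

/-- no over-offenders on a conjugate -/
theorem noOver_cj {V X : Subgroup G} (h : NoOver V X) (y : G) {D : Subgroup G} (hD : D ≤ cj y X)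
    (h2 : ∀ a ∈ D, a ^ 2 = 1) (hc : D ≤ centralizer (D : Set G)) :
    (centralizer ((cj y (cl V X) : Subgroup G) : Set G)).relIndex D ≤
      (centralizer (D : Set G)).relIndex (cj y (cl V X)) := by
  have h1 := h (cj y⁻¹ D) (by rw [cj_le_iff, inv_inv]; exact hD) (fun a ha => by
    rw [mem_cj, inv_inv] at ha
    have h3 := h2 _ ha
    have e : a ^ 2 = y⁻¹ * (y * a * y⁻¹) ^ 2 * y := by rw [pow_two, pow_two]; group
    rw [e, h3, mul_one, inv_mul_cancel]
    exact one_mem _) (fun a ha b hb => by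
    rw [mem_cj, inv_inv] at ha hb
    have h3 := mem_centralizer_iff.1 (hc ha) _ hb
    have e : a * b * a⁻¹ * b⁻¹ = y⁻¹ * ((y * a * y⁻¹) * (y * b * y⁻¹) * (y * a * y⁻¹)⁻¹ * (y * b * y⁻¹)⁻¹) * y := by
      group
    rw [e, ← h3, mul_inv_cancel_right, mul_inv_cancel, mul_one, inv_mul_cancel]
    exact one_mem _)
  have e1 : (centralizer (cl V X : Set G)).relIndex (cj y⁻¹ D) =
      (centralizer ((cj y (cl V X) : Subgroup G) : Set G)).relIndex D := by
    rw [← relIndex_cj y, cj_cj_inv, cj_cents]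
  have e2 : (centralizer ((cj y⁻¹ D : Subgroup G) : Set G)).relIndex (cl V X) =
      (centralizer (D : Set G)).relIndex (cj y (cl V X)) := by
    rw [← relIndex_cj y, cj_cents, cj_cj_inv]
  rw [e1, e2] at h1
  exact h1

namespace Bt

variable [Finite G] {V F T X L Q0 V' F₁ : Subgroup G} (t : Bt V F T X L Q0 V' F₁)
include t

/-- `C_{V^{hx}}(w) ≤ F^h` for `w ∈ X^h - N(V^{hx})` -/
theorem cent_le_cj {h x w v : G} (hx : x ∈ X) (hw : w ∈ cj h X)
    (hn : w ∉ normalizer ((cj (h * x) V : Subgroup G) : Set G)) (hv : v ∈ cj (h * x) V) (hc : v * w = w * v) :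
    v ∈ cj h F := by
  rw [mem_cj]
  refine t.pan.cent_le (x := x) (w := h⁻¹ * w * h) hx (mem_cj.1 hw) (fun h0 => hn ?_) (v := h⁻¹ * v * h) ?_ ?_
  · have h1 := mem_normalizer_iff_cj.1 h0
    rw [mem_normalizer_iff_cj]
    have h2 := congrArg (cj h) h1
    rw [cj_cj, cj_cj, cj_cj] at h2
    rw [cj_cj]
    convert h2 using 2
    group
  · rw [← cj_cj, mem_cj] at hv
    exact hv
  · have e1 : h⁻¹ * v * h * (h⁻¹ * w * h) = h⁻¹ * (v * w) * h := by group
    have e2 : h⁻¹ * w * h * (h⁻¹ * v * h) = h⁻¹ * (w * v) * h := by group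
    rw [e1, e2, hc]

/-- `[U^h, B ∩ Q^h] ≤ F^h` -/
theorem comm_mem_F {h : G} (hB : BB V X F₁ ≤ cj h Q0) (hU : cj h (cl V X) ≤ V')
    (hline : ∀ x ∈ X, BB V X F₁ ≤ normalizer ((cj (h * x) V : Subgroup G) : Set G) →
      BB V X F₁ ≤ centralizer ((cj (h * x) V : Subgroup G) : Set G))
    {u e : G} (hu : u ∈ cj h (cl V X)) (he : e ∈ BB V X F₁) (heQ : e ∈ cj h (o2 X)) : ⁅u, e⁆ ∈ cj h F := by
  let K : Subgroup G :=
    { carrier := {u | u ∈ cj h (cl V X) ∧ ⁅u, e⁆ ∈ cj h F}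
      one_mem' := ⟨one_mem _, by rw [commutatorElement_one_left]; exact one_mem _⟩
      mul_mem' := by
        rintro a b ⟨ha, ha'⟩ ⟨hb, hb'⟩
        refine ⟨mul_mem ha hb, ?_⟩
        have e1 : ⁅a * b, e⁆ = (a * ⁅b, e⁆ * a⁻¹) * ⁅a, e⁆ := by
          simp only [commutatorElement_def]; group
        have hXF : cj h X ≤ centralizer ((cj h F : Subgroup G) : Set G) := cj_cent t.pan.X_le
        have h1 := mem_centralizer_iff.1 (hXF (cj_mono h t.pan.U_le_X ha)) _ hb'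
        rw [e1, ← h1, mul_inv_cancel_right]
        exact mul_mem hb' ha'
      inv_mem' := by
        rintro a ⟨ha, ha'⟩
        refine ⟨inv_mem ha, ?_⟩
        have e1 : ⁅a⁻¹, e⁆ = a⁻¹ * ⁅a, e⁆⁻¹ * a := by
          simp only [commutatorElement_def]; group
        have hXF : cj h X ≤ centralizer ((cj h F : Subgroup G) : Set G) := cj_cent t.pan.X_le
        have h1 := mem_centralizer_iff.1 (hXF (cj_mono h t.pan.U_le_X (inv_mem ha))) _ (inv_mem ha')
        rw [e1, ← h1, mul_assoc, inv_mul_cancel, mul_one]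
        exact inv_mem ha' }
  have key : cj h (cl V X) ≤ K := by
    unfold cl
    rw [EZero.cj_iSup]
    refine iSup_le fun x => ?_
    rw [cj_cj]
    intro v hv
    have hvU : v ∈ cj h (cl V X) := by
      rw [← cj_cj] at hv
      exact cj_mono h (cj_le_cl x.2) hv
    refine ⟨hvU, ?_⟩
    by_cases hn : BB V X F₁ ≤ normalizer ((cj (h * x) V : Subgroup G) : Set G)
    · have h1 := mem_centralizer_iff.1 (hline x x.2 hn he) v hv
      have h2 : ⁅v, e⁆ = 1 := by rw [commutatorElement_eq_one_iff_mul_comm]; exact h1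
      rw [h2]; exact one_mem _
    · rw [SetLike.not_le_iff_exists] at hn
      obtain ⟨w, hw, hwn⟩ := hn
      have h3 : ⁅v, e⁆ ∈ cj (h * x) V := by
        have h4 : cj h (o2 X) ≤ normalizer ((cj (h * x) V : Subgroup G) : Set G) := by
          have := cj_norm (g := h) (t.pan.o2_norm_line x.2)
          rwa [cj_cj] at this
        have h1 := conj_mem' h4 heQ (inv_mem hv)
        have e1 : ⁅v, e⁆ = v * (e * v⁻¹ * e⁻¹) := by simp only [commutatorElement_def]; group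
        rw [e1]
        exact mul_mem hv h1
      have h5 : ⁅v, e⁆ ∈ BB V X F₁ := by
        have h1 := conj_mem' X'_norm_B (t.V'_le_X' (hU hvU)) he
        rw [commutatorElement_def]
        exact (BB V X F₁).mul_mem h1 ((BB V X F₁).inv_mem he)
      exact t.cent_le_cj x.2 (cj_mono h t.pan.Q0_X (hB hw)) hwn h3
        (mem_centralizer_iff.1 (t.B_comm h5) w hw).symm
  exact (key hu).2

/-- `|B : B ∩ Q^h|² ≤ |U^h : C(B)|` -/
theorem two_le {h : G} (hB : BB V X F₁ ≤ cj h Q0) :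
    (cj h (o2 X)).relIndex (BB V X F₁) * (cj h (o2 X)).relIndex (BB V X F₁) ≤
      (centralizer (BB V X F₁ : Set G)).relIndex (cj h (cl V X)) := by
  obtain ⟨N, hN, hXN, hE, hE'⟩ := t.two
  have hBX : cj h⁻¹ (BB V X F₁) ≤ X := by
    rw [cj_le_iff, inv_inv]
    exact hB.trans (cj_mono h t.pan.Q0_X)
  have h3 := t.noov.two hN t.pan.U_le_X t.pan.U_sq t.pan.U_comm hXN (le_normalizer_cl V X) hE hE' hBX
    (fun a ha => by
      rw [mem_cj, inv_inv] at ha
      have h4 := t.B_sq _ ha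
      have e : a ^ 2 = h⁻¹ * (h * a * h⁻¹) ^ 2 * h := by rw [pow_two, pow_two]; group
      rw [e, h4, mul_one, inv_mul_cancel]
      exact one_mem _) (fun a ha b hb => by
      rw [mem_cj, inv_inv] at ha hb
      have h4 := mem_centralizer_iff.1 (t.B_comm ha) _ hb
      have e : a * b * a⁻¹ * b⁻¹ = h⁻¹ * ((h * a * h⁻¹) * (h * b * h⁻¹) * (h * a * h⁻¹)⁻¹ * (h * b * h⁻¹)⁻¹) * h := by
        group
      rw [e, ← h4, mul_inv_cancel_right, mul_inv_cancel, mul_one, inv_mul_cancel]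
      exact one_mem _)
  have e1 : (o2 X).relIndex (cj h⁻¹ (BB V X F₁)) = (cj h (o2 X)).relIndex (BB V X F₁) := by
    rw [← relIndex_cj h, cj_cj_inv]
  have e2 : (centralizer ((cj h⁻¹ (BB V X F₁) : Subgroup G) : Set G)).relIndex (cl V X) =
      (centralizer (BB V X F₁ : Set G)).relIndex (cj h (cl V X)) := by
    rw [← relIndex_cj h, cj_cents, cj_cj_inv]
  rw [e1, e2] at h3
  exact h3

/-- `|D : C_D(B)| ≤ |B : C_B(D)|` for `D ≤ E` -/
theorem noover_B {D : Subgroup G} (hD : D ≤ EE V' F₁) :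
    (centralizer (BB V X F₁ : Set G)).relIndex D ≤ (centralizer (D : Set G)).relIndex (BB V X F₁) := by
  refine step_prod (Y := fun y : centralizer (F₁ : Set G) => cj (y : G) (cl V X)) le_rfl
    (fun y => cj_le_cl y.2) fun y D' hD' => ?_
  have hDV : D' ≤ V' := (hD'.trans hD).trans inf_le_left
  refine noOver_cj t.hno y ?_ (fun a ha => t.hy.sq a (hDV ha)) (hDV.trans (t.hy.comm.trans (centralizer_le hDV)))
  exact ((hD'.trans hD).trans NOne.Flat.Hyp.E_le_W).trans ((t.W_le_cj y.2).trans (cj_mono _ t.pan.Q0_X))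

/-- **(5)** -/
theorem count {h : G} (hB : BB V X F₁ ≤ cj h Q0) (hU : cj h (cl V X) ≤ V')
    (hE : ¬ cj h (cl V X) ≤ EE V' F₁)
    (hline : ∀ x ∈ X, BB V X F₁ ≤ normalizer ((cj (h * x) V : Subgroup G) : Set G) →
      BB V X F₁ ≤ centralizer ((cj (h * x) V : Subgroup G) : Set G)) :
    2 * (NN V' F₁).relIndex (BB V X F₁) ≤ (EE V' F₁).relIndex V' * (EE V' F₁).relIndex V' := by
  set B := BB V X F₁ with hBdef
  set E := EE V' F₁ with hEdef
  set Q := cj h (o2 X) with hQ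
  set U := cj h (cl V X) with hUdef
  -- a bad line
  have hl : ∃ x ∈ X, ¬ cj (h * x) V ≤ E := by
    by_contra hcon
    push Not at hcon
    apply hE
    rw [hUdef]
    unfold cl
    rw [EZero.cj_iSup]
    refine iSup_le fun y => ?_
    rw [cj_cj]
    exact hcon y y.2
  obtain ⟨x, hx, hlE⟩ := hl
  set lam := cj (h * x) V with hlam
  have hlU : lam ≤ U := by
    rw [hlam, ← cj_cj]
    exact cj_mono h (cj_le_cl hx)
  have hlF : lam ⊓ F₁ = ⊥ := by
    by_contra h0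
    exact hlE (t.le_E (hlU.trans hU) h0)
  have hFF : cj h F ⊓ F₁ = ⊥ := by
    rw [← le_bot_iff, ← hlF]
    refine inf_le_inf_right _ ?_
    rw [hlam, ← cj_cj]
    exact cj_mono h (t.pan.F_le_line hx)
  -- `[E₂, E₁] = 1`
  have hcomm : B ⊓ Q ≤ centralizer ((U ⊓ E : Subgroup G) : Set G) := by
    rintro e ⟨heB, heQ⟩
    rw [mem_centralizer_iff]
    rintro u ⟨huU, huE⟩
    have h1 := t.comm_mem_F hB hU hline huU heB heQ
    have h2 : ⁅u, e⁆ ∈ F₁ := by
      rw [commutatorElement_def]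
      exact t.hy.comm_EW huE (t.B_le_W heB)
    have h3 : ⁅u, e⁆ ∈ cj h F ⊓ F₁ := ⟨h1, h2⟩
    rw [hFF, mem_bot, commutatorElement_eq_one_iff_mul_comm] at h3
    exact h3
  have hX0 : 0 < Q.relIndex B := Nat.pos_of_ne_zero index_ne_zero_of_finite
  -- `x ≤ ε`
  have hE2 : (centralizer (B : Set G)).relIndex (U ⊓ E) ≤ Q.relIndex B := by
    have h1 := t.noover_B (D := U ⊓ E) inf_le_right
    have h2 : (centralizer ((U ⊓ E : Subgroup G) : Set G)).relIndex B ≤ (B ⊓ Q).relIndex B :=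
      relIndex_le_of_le_left hcomm index_ne_zero_of_finite
    rw [inf_relIndex_left] at h2
    exact h1.trans h2
  have hUE : E.relIndex U ≤ E.relIndex V' := relIndex_le_of_le_right hU index_ne_zero_of_finite
  have hxe : Q.relIndex B ≤ E.relIndex V' := by
    have h1 := t.two_le hB
    have h2 : (centralizer (B : Set G)).relIndex U ≤ (centralizer (B : Set G) ⊓ E).relIndex U :=
      relIndex_le_of_le_left inf_le_left index_ne_zero_of_finite
    rw [← relIndex_inf_mul_relIndex, inf_comm E U] at h2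
    have h3 : Q.relIndex B * Q.relIndex B ≤ Q.relIndex B * E.relIndex V' :=
      h1.trans (h2.trans (Nat.mul_le_mul hE2 hUE))
    exact Nat.le_of_mul_le_mul_left h3 hX0
  -- `|B : B ∩ N| ≤ |B : E₁| |E₁ : E₁ ∩ N|`
  have hN : (NN V' F₁).relIndex B ≤ (NN V' F₁).relIndex (B ⊓ Q) * Q.relIndex B := by
    rw [inf_comm B Q, relIndex_inf_mul_relIndex]
    exact relIndex_le_of_le_left inf_le_left index_ne_zero_of_finite
  -- the bad line
  have hcN : centralizer (lam : Set G) ⊓ (B ⊓ Q) ≤ NN V' F₁ := by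
    rintro s ⟨hs1, hs2, -⟩
    rw [SetLike.not_le_iff_exists] at hlE
    obtain ⟨w, hw, hwE⟩ := hlE
    have hwV : w ∈ V' := hU (hlU hw)
    rw [← t.hy.c_mem_F_iff hwV hwE (t.B_le_W hs2)]
    have h1 := mem_centralizer_iff.1 hs1 w hw
    rw [c_def, h1, mul_inv_cancel_right, mul_inv_cancel]
    exact one_mem _
  have hNl : (NN V' F₁).relIndex (B ⊓ Q) ≤ (centralizer (lam : Set G)).relIndex (B ⊓ Q) := by
    have h1 := relIndex_le_of_le_left (L := B ⊓ Q) hcN index_ne_zero_of_finite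
    rwa [inf_relIndex_right] at h1
  have hmain : 2 * (NN V' F₁).relIndex (B ⊓ Q) ≤ E.relIndex V' := by
    by_cases hc : B ⊓ Q ≤ centralizer (lam : Set G)
    · have h1 : (NN V' F₁).relIndex (B ⊓ Q) = 1 := by
        rw [relIndex_eq_one]
        exact (le_inf hc le_rfl).trans hcN
      rw [h1, mul_one]
      exact two_le_of_ne fun h0 => hE (hU.trans h0)
    · have h5 := (t.pan.nff.cj (h * x)) (B ⊓ Q) (t.isPGroup_B.to_le inf_le_left)
        (inf_le_right.trans (by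
          have := cj_norm (g := h) (t.pan.o2_norm_line hx)
          rwa [cj_cj] at this))
        (fun a ha => by rw [t.B_sq a ha.1]; exact one_mem _)
        (fun a ha b hb => by
          have e : a * b = b * a := (mem_centralizer_iff.1 (t.B_comm ha.1) b hb.1).symm
          rw [e, mul_inv_cancel_right, mul_inv_cancel]; exact one_mem _) hc
      have h6 := two_mul_le_of_lt (t.isPGroup_B.to_le inf_le_left)
        (isPGroup_cj _ t.pan.isPGroup_V) h5
      have h7 : (centralizer ((B ⊓ Q : Subgroup G) : Set G)).relIndex lam ≤ E.relIndex lam := by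
        have h8 : E ⊓ lam ≤ centralizer ((B ⊓ Q : Subgroup G) : Set G) :=
          (le_inf (inf_le_right.trans hlU) inf_le_left).trans (cent_symm hcomm)
        have h9 := relIndex_le_of_le_left (L := lam) h8 index_ne_zero_of_finite
        rwa [inf_relIndex_right] at h9
      have h8 : E.relIndex lam ≤ E.relIndex V' := relIndex_le_of_le_right (hlU.trans hU) index_ne_zero_of_finite
      calc 2 * (NN V' F₁).relIndex (B ⊓ Q) ≤ 2 * (centralizer (lam : Set G)).relIndex (B ⊓ Q) :=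
            Nat.mul_le_mul_left 2 hNl
        _ ≤ _ := h6
        _ ≤ _ := h7
        _ ≤ _ := h8
  calc 2 * (NN V' F₁).relIndex B ≤ 2 * ((NN V' F₁).relIndex (B ⊓ Q) * Q.relIndex B) := Nat.mul_le_mul_left 2 hN
    _ = (2 * (NN V' F₁).relIndex (B ⊓ Q)) * Q.relIndex B := by ring
    _ ≤ E.relIndex V' * E.relIndex V' := Nat.mul_le_mul hmain hxe

end Bt

end Cfsg.Agent.Omega.NO3b.BetaTwo

end

section


/-!
# THEOREM BETA2 for a family of panels (helper506, bb #21336 (A)), part 1: the frame, the gallery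

`BtF V F T X L Q0 V' F₁`, `F T X : ι → Subgroup G` : panels `X i` over one line `V` with `NoOv`, `SM`, `Two`, `NoOver`;
`W = WW V' F₁ ≤ Q0`, `W ≰ O₂(X i)` for some `i`, `⟨V^{X i}⟩ ≤ V'`, the lines are good.

* `comm_of_le'` : the mutual pair for two panels over one line;
* `BtF.le_E` (G1); `BF V X F₁ = ⨆ i, ⟨U_i^y | y ∈ C_G(F₁)⟩`; `BtF.B_comm`, `BtF.B_le_W` (1);
* `BtF.exists_gal` (2) : the critical panel `(X i)^h`.
-/

set_option autoImplicit false

namespace Cfsg.Agent.Omega.NO3b.BetaTwo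

open Subgroup Cfsg Cfsg.Agent.ZN Cfsg.Agent.ZN.ChoiceBase
open Cfsg.Agent.ZN.ChoiceSit (Syl exists_syl syl_conj o2_le_syl)
open Cfsg.Agent.Omega.NO3b.EZero
open Cfsg.Agent.Omega.NO3b.K0 (NoOv cj_of_le cj_self cj_bot')
open Cfsg.Agent.Omega.NO3b.K0.Mix (Pan SM Two Crit k0p)
open Cfsg.Agent.Omega.NOne.Flat (EE WW NN Bad)
open Cfsg.Agent.Omega.NOne.NearFF (c)

universe u v

variable {G : Type u} [Group G]

/-- The frame for a family of panels. -/
structure BtF [Finite G] {ι : Type v} (V : Subgroup G) (F T X : ι → Subgroup G) (L Q0 V' F₁ : Subgroup G) :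
    Prop where
  pan : ∀ i, Pan V (F i) (T i) (X i) L Q0
  noov : ∀ i, NoOv (X i)
  sm : ∀ i, SM V (X i)
  two : ∀ i, Two V (X i)
  hno : ∀ i, NoOver V (X i)
  hy : NOne.Flat.Hyp V' F₁
  hoff : ∀ E0 : Subgroup G, F₁ ≤ E0 → E0 ≤ EE V' F₁ →
    F₁.relIndex E0 ≤ (centralizer (E0 : Set G)).relIndex (WW V' F₁)
  good : ∀ (g : G) (D : Subgroup G), D ≤ cj g V → D ≠ ⊥ → cj g V ≤ o2 (centralizer (D : Set G))
  WQ : WW V' F₁ ≤ Q0
  WX : ∃ i, ¬ WW V' F₁ ≤ o2 (X i)
  UV : ∀ i, cl V (X i) ≤ V'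

/-- `B = ⨆ i, ⟨U_i^y | y ∈ C_G(F₁)⟩` -/
def BF {ι : Type v} (V : Subgroup G) (X : ι → Subgroup G) (F₁ : Subgroup G) : Subgroup G :=
  ⨆ i, BB V (X i) F₁

/-- **(K0P)** for two panels over one line -/
theorem comm_of_le' [Finite G] {V F T X F' T' X' L Q0 : Subgroup G} (p : Pan V F T X L Q0)
    (p' : Pan V F' T' X' L Q0) (hX : NoOv X) (hX' : NoOv X') (hs : SM V X) (hs' : SM V X') (h2 : Two V X)
    (h2' : Two V X') {a b : G} (h1 : cj a (cl V X) ≤ cj b Q0) (h3 : cj b (cl V X') ≤ cj a Q0) :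
    cj a (cl V X) ≤ centralizer ((cj b (cl V X') : Subgroup G) : Set G) := by
  have h4 : cl V X ≤ centralizer ((cj (a⁻¹ * b) (cl V X') : Subgroup G) : Set G) := by
    refine k0p p p' hX hX' hs hs' h2 h2' ?_ ?_
    · rw [← cj_cj, ← cj_le_iff]
      exact h1.trans (cj_mono b p'.Q0_X)
    · rw [← cj_cj, cj_le_iff, inv_inv]
      exact h3.trans (cj_mono a p.Q0_X)
  have h5 := cj_cent (g := a) h4
  rwa [cj_cj, mul_inv_cancel_left] at h5

namespace BtF

variable [Finite G] {ι : Type v} {V : Subgroup G} {F T X : ι → Subgroup G} {L Q0 V' F₁ : Subgroup G}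
  (t : BtF V F T X L Q0 V' F₁)
include t

/-- the frame for one panel `X i` with `W ≰ O₂(X i)` -/
theorem bt {i : ι} (hi : ¬ WW V' F₁ ≤ o2 (X i)) : Bt V (F i) (T i) (X i) L Q0 V' F₁ where
  pan := t.pan i
  noov := t.noov i
  sm := t.sm i
  two := t.two i
  hno := t.hno i
  hy := t.hy
  hoff := t.hoff
  good := t.good
  WQ := t.WQ
  WX := hi
  UV := t.UV i

/-- `V ≤ F₁` -/
theorem V_le_F₁ : V ≤ F₁ := by
  obtain ⟨i, hi⟩ := t.WX
  exact (t.bt hi).V_le_F₁

/-- **(G1)** a line in `V'` which meets `F₁` is in `E`. -/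
theorem le_E {g : G} (h1 : cj g V ≤ V') (h2 : cj g V ⊓ F₁ ≠ ⊥) : cj g V ≤ EE V' F₁ := by
  obtain ⟨i, hi⟩ := t.WX
  exact (t.bt hi).le_E h1 h2

/-- the lines on `X i` are in `E` -/
theorem line_le_E {i : ι} {x : G} (hx : x ∈ X i) : cj x V ≤ EE V' F₁ := by
  refine t.le_E ((cj_le_cl hx).trans (t.UV i)) fun h0 => (t.pan i).F_ne_bot ?_
  rw [← le_bot_iff, ← h0]
  exact le_inf ((t.pan i).F_le_line hx) ((t.pan i).F_le.trans t.V_le_F₁)

theorem U_le_E (i : ι) : cl V (X i) ≤ EE V' F₁ := cl_le fun _ hx => t.line_le_E hx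

theorem cjU_le_W (i : ι) {y : G} (hy : y ∈ centralizer (F₁ : Set G)) : cj y (cl V (X i)) ≤ WW V' F₁ :=
  (cj_mono y (t.U_le_E i)).trans (Bt.conjE_le_W' hy)

/-- `W ≤ Q0^y` -/
theorem W_le_cj {y : G} (hy : y ∈ centralizer (F₁ : Set G)) : WW V' F₁ ≤ cj y Q0 := by
  have h1 := cj_mono y t.WQ
  rwa [Bt.conj_W' hy] at h1

theorem V_ne_bot : V ≠ ⊥ := by
  obtain ⟨i, -⟩ := t.WX
  exact (t.pan i).V_ne_bot

/-! ### (1) -/

theorem cjU_comm (i j : ι) {y z : G} (hy : y ∈ centralizer (F₁ : Set G)) (hz : z ∈ centralizer (F₁ : Set G)) :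
    cj y (cl V (X i)) ≤ centralizer ((cj z (cl V (X j)) : Subgroup G) : Set G) :=
  comm_of_le' (t.pan i) (t.pan j) (t.noov i) (t.noov j) (t.sm i) (t.sm j) (t.two i) (t.two j)
    ((t.cjU_le_W i hy).trans (t.W_le_cj hz)) ((t.cjU_le_W j hz).trans (t.W_le_cj hy))

omit [Finite G] t in
theorem cjU_le_B (i : ι) {y : G} (hy : y ∈ centralizer (F₁ : Set G)) : cj y (cl V (X i)) ≤ BF V X F₁ :=
  (cj_le_cl (V := cl V (X i)) hy).trans (le_iSup (fun i => BB V (X i) F₁) i)

omit [Finite G] t in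
theorem U_le_B (i : ι) : cl V (X i) ≤ BF V X F₁ :=
  (le_cl _ _).trans (le_iSup (fun i => BB V (X i) F₁) i)

omit [Finite G] t in
theorem B_le {A : Subgroup G} (h : ∀ i, ∀ y ∈ centralizer (F₁ : Set G), cj y (cl V (X i)) ≤ A) : BF V X F₁ ≤ A :=
  iSup_le fun i => cl_le (h i)

theorem B_comm : BF V X F₁ ≤ centralizer (BF V X F₁ : Set G) :=
  B_le fun i _ hy => cent_symm (B_le fun j _ hz => t.cjU_comm j i hz hy)

theorem B_le_W : BF V X F₁ ≤ WW V' F₁ := B_le fun i _ hy => t.cjU_le_W i hy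

omit [Finite G] t in
theorem X'_norm_B : centralizer (F₁ : Set G) ≤ normalizer (BF V X F₁ : Set G) := by
  intro y hy
  rw [mem_normalizer_iff_cj, BF, EZero.cj_iSup]
  congr 1
  funext i
  exact cj_cl hy

theorem cjU_sq (i : ι) (y : G) : ∀ u ∈ cj y (cl V (X i)), u ^ 2 = 1 := by
  intro v hv
  have h1 := (t.pan i).U_sq _ (mem_cj.1 hv)
  have e : v ^ 2 = y * (y⁻¹ * v * y) ^ 2 * y⁻¹ := by rw [pow_two, pow_two]; group
  rw [e, h1]; group

theorem B_sq : ∀ b ∈ BF V X F₁, b ^ 2 = 1 :=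
  sq_of_comm t.B_comm (ι := ι × centralizer (F₁ : Set G)) (B := fun i => cj (i.2 : G) (cl V (X i.1)))
    (fun i => cjU_le_B i.1 i.2.2)
    (B_le fun i y hy => le_iSup (fun i : ι × centralizer (F₁ : Set G) => cj (i.2 : G) (cl V (X i.1))) (i, ⟨y, hy⟩))
    fun i => t.cjU_sq i.1 i.2

theorem isPGroup_B : IsPGroup 2 (BF V X F₁) := fun x => ⟨1, Subtype.ext (by simpa using t.B_sq x x.2)⟩

/-! ### (2) -/

/-- the step of the gallery -/
theorem gal_step {h : G} (hB : BF V X F₁ ≤ cj h Q0) {i : ι} (hE : cj h (cl V (X i)) ≤ EE V' F₁) {x : G}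
    (hx : x ∈ X i) : BF V X F₁ ≤ cj (h * x) Q0 := by
  have h1 : BF V X F₁ ≤ centralizer ((cj h (cl V (X i)) : Subgroup G) : Set G) := by
    refine B_le fun j y hy => ?_
    exact comm_of_le' (t.pan j) (t.pan i) (t.noov j) (t.noov i) (t.sm j) (t.sm i) (t.two j) (t.two i)
      ((cjU_le_B j hy).trans hB) ((hE.trans NOne.Flat.Hyp.E_le_W).trans (t.W_le_cj hy))
  have h2 : BF V X F₁ ≤ cj h (o2 (X i)) :=
    (t.pan i).le_cj_o2 t.isPGroup_B (hB.trans (cj_mono h (t.pan i).Q0_X)) h1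
  have h3 : cj h (o2 (X i)) = cj (h * x) (o2 (X i)) := by
    rw [← cj_cj, cj_of_le (ChoiceSit.le_normalizer_o2 (X i)) hx]
  rw [h3] at h2
  refine (t.pan i).le_cj_Q0_of t.isPGroup_B
    (h2.trans (cj_mono _ ((t.pan i).o2_le_T.trans (t.pan i).T_le))) ?_
  refine h1.trans (centralizer_le ?_)
  rw [← cj_cj]
  exact cj_mono h (cj_le_cl hx)

theorem cj_Q0 {l : G} (hl : l ∈ L) : cj l Q0 = Q0 := by
  obtain ⟨i, -⟩ := t.WX
  exact (t.pan i).cj_Q0 hl

/-- **(2)** the critical panel -/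
theorem exists_gal {H : Subgroup G} (hH : H ≤ (⨆ i, X i) ⊔ L) (hLH : L ≤ H) (hXH : ∀ i, X i ≤ H)
    (hE : ¬ cl V H ≤ EE V' F₁) :
    ∃ h ∈ H, BF V X F₁ ≤ cj h Q0 ∧ ∃ i, ¬ cj h (cl V (X i)) ≤ EE V' F₁ := by
  by_contra hcon
  push Not at hcon
  apply hE
  have h0 : BF V X F₁ ≤ cj 1 Q0 := by
    rw [cj_one]; exact t.B_le_W.trans t.WQ
  have key : ∀ h ∈ H, BF V X F₁ ≤ cj h Q0 := by
    intro h hh
    have hh' := hH hh
    have hcl : (⨆ i, X i) ⊔ L = closure ((⋃ i, (X i : Set G)) ∪ (L : Set G)) := by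
      rw [Subgroup.closure_union, closure_eq, Subgroup.closure_iUnion]
      simp only [closure_eq]
    rw [hcl] at hh'
    have h1 : h ∈ H ∧ BF V X F₁ ≤ cj h Q0 := by
      induction hh' using Subgroup.closure_induction_right with
      | one => exact ⟨one_mem _, h0⟩
      | mul_right a _ b hb ih =>
        have ih' := ih (by
          rcases hb with hb | hb
          · obtain ⟨i, hi⟩ := Set.mem_iUnion.1 hb
            have := mul_mem hh (inv_mem (hXH i hi))
            rwa [mul_inv_cancel_right] at this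
          · have := mul_mem hh (inv_mem (hLH hb))
            rwa [mul_inv_cancel_right] at this)
        refine ⟨hh, ?_⟩
        rcases hb with hb | hb
        · obtain ⟨i, hi⟩ := Set.mem_iUnion.1 hb
          exact t.gal_step ih'.2 (hcon a ih'.1 ih'.2 i) hi
        · rw [← cj_cj, t.cj_Q0 hb]
          exact ih'.2
      | mul_inv_cancel a _ b hb ih =>
        have ih' := ih (by
          rcases hb with hb | hb
          · obtain ⟨i, hi⟩ := Set.mem_iUnion.1 hb
            have := mul_mem hh (hXH i hi)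
            rwa [inv_mul_cancel_right] at this
          · have := mul_mem hh (hLH hb)
            rwa [inv_mul_cancel_right] at this)
        refine ⟨hh, ?_⟩
        rcases hb with hb | hb
        · obtain ⟨i, hi⟩ := Set.mem_iUnion.1 hb
          exact t.gal_step ih'.2 (hcon a ih'.1 ih'.2 i) (inv_mem hi)
        · rw [← cj_cj, t.cj_Q0 (inv_mem hb)]
          exact ih'.2
    exact h1.2
  obtain ⟨i, -⟩ := t.WX
  exact cl_le fun h hh => (cj_mono h (le_cl V (X i))).trans (hcon h hh (key h hh) i)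

end BtF

end Cfsg.Agent.Omega.NO3b.BetaTwo

end

section


/-!
# THEOREM BETA2 for a family of panels (helper506, bb #21336 (A)), step (5): the count

`Cnt.lean` with `B = BF V X F₁`:

* `BtF.comm_mem_F` : `[U_i^h, B ∩ Q_i^h] ≤ F_i^h`;
* `BtF.two_le` : `|B : B ∩ Q_i^h|² ≤ |U_i^h : C(B)|`;
* **`BtF.count`** : `2 |B : B ∩ N| ≤ |V' : E|²`.
-/

set_option autoImplicit false

namespace Cfsg.Agent.Omega.NO3b.BetaTwo

open Subgroup Cfsg Cfsg.Agent.ZN Cfsg.Agent.ZN.ChoiceBase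
open Cfsg.Agent.ZN.ChoiceSit (Syl exists_syl syl_conj o2_le_syl)
open Cfsg.Agent.Omega.NO3b.EZero
open Cfsg.Agent.Omega.NO3b.K0 (NoOv cj_of_le cj_self cj_bot' two_mul_le_of_lt two_le_of_ne cent_sup conj_mem')
open Cfsg.Agent.Omega.NO3b.K0.Mix (Pan SM Two Crit)
open Cfsg.Agent.Omega.NOne.Flat (EE WW NN Bad)
open Cfsg.Agent.Omega.NOne.NearFF (c c_def)
open scoped commutatorElement

universe u v

variable {G : Type u} [Group G]

namespace BtF

variable [Finite G] {ι : Type v} {V : Subgroup G} {F T X : ι → Subgroup G} {L Q0 V' F₁ : Subgroup G}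
  (t : BtF V F T X L Q0 V' F₁)
include t

/-- `C_{V^{hx}}(w) ≤ F^h` for `w ∈ X^h - N(V^{hx})` -/
theorem cent_le_cj {i : ι} {h x w v : G} (hx : x ∈ X i) (hw : w ∈ cj h (X i))
    (hn : w ∉ normalizer ((cj (h * x) V : Subgroup G) : Set G)) (hv : v ∈ cj (h * x) V) (hc : v * w = w * v) :
    v ∈ cj h (F i) := by
  rw [mem_cj]
  refine (t.pan i).cent_le (x := x) (w := h⁻¹ * w * h) hx (mem_cj.1 hw) (fun h0 => hn ?_) (v := h⁻¹ * v * h) ?_ ?_
  · have h1 := mem_normalizer_iff_cj.1 h0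
    rw [mem_normalizer_iff_cj]
    have h2 := congrArg (cj h) h1
    rw [cj_cj, cj_cj, cj_cj] at h2
    rw [cj_cj]
    convert h2 using 2
    group
  · rw [← cj_cj, mem_cj] at hv
    exact hv
  · have e1 : h⁻¹ * v * h * (h⁻¹ * w * h) = h⁻¹ * (v * w) * h := by group
    have e2 : h⁻¹ * w * h * (h⁻¹ * v * h) = h⁻¹ * (w * v) * h := by group
    rw [e1, e2, hc]

/-- `[U^h, B ∩ Q^h] ≤ F^h` -/
theorem comm_mem_F {h : G} {i : ι} (hB : BF V X F₁ ≤ cj h Q0) (hU : cj h (cl V (X i)) ≤ V')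
    (hline : ∀ x ∈ X i, BF V X F₁ ≤ normalizer ((cj (h * x) V : Subgroup G) : Set G) →
      BF V X F₁ ≤ centralizer ((cj (h * x) V : Subgroup G) : Set G))
    {u e : G} (hu : u ∈ cj h (cl V (X i))) (he : e ∈ BF V X F₁) (heQ : e ∈ cj h (o2 (X i))) : ⁅u, e⁆ ∈ cj h (F i) := by
  let K : Subgroup G :=
    { carrier := {u | u ∈ cj h (cl V (X i)) ∧ ⁅u, e⁆ ∈ cj h (F i)}
      one_mem' := ⟨one_mem _, by rw [commutatorElement_one_left]; exact one_mem _⟩
      mul_mem' := by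
        rintro a b ⟨ha, ha'⟩ ⟨hb, hb'⟩
        refine ⟨mul_mem ha hb, ?_⟩
        have e1 : ⁅a * b, e⁆ = (a * ⁅b, e⁆ * a⁻¹) * ⁅a, e⁆ := by
          simp only [commutatorElement_def]; group
        have hXF : cj h (X i) ≤ centralizer ((cj h (F i) : Subgroup G) : Set G) := cj_cent (t.pan i).X_le
        have h1 := mem_centralizer_iff.1 (hXF (cj_mono h (t.pan i).U_le_X ha)) _ hb'
        rw [e1, ← h1, mul_inv_cancel_right]
        exact mul_mem hb' ha'
      inv_mem' := by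
        rintro a ⟨ha, ha'⟩
        refine ⟨inv_mem ha, ?_⟩
        have e1 : ⁅a⁻¹, e⁆ = a⁻¹ * ⁅a, e⁆⁻¹ * a := by
          simp only [commutatorElement_def]; group
        have hXF : cj h (X i) ≤ centralizer ((cj h (F i) : Subgroup G) : Set G) := cj_cent (t.pan i).X_le
        have h1 := mem_centralizer_iff.1 (hXF (cj_mono h (t.pan i).U_le_X (inv_mem ha))) _ (inv_mem ha')
        rw [e1, ← h1, mul_assoc, inv_mul_cancel, mul_one]
        exact inv_mem ha' }
  have key : cj h (cl V (X i)) ≤ K := by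
    unfold cl
    rw [EZero.cj_iSup]
    refine iSup_le fun x => ?_
    rw [cj_cj]
    intro v hv
    have hvU : v ∈ cj h (cl V (X i)) := by
      rw [← cj_cj] at hv
      exact cj_mono h (cj_le_cl x.2) hv
    refine ⟨hvU, ?_⟩
    by_cases hn : BF V X F₁ ≤ normalizer ((cj (h * x) V : Subgroup G) : Set G)
    · have h1 := mem_centralizer_iff.1 (hline x x.2 hn he) v hv
      have h2 : ⁅v, e⁆ = 1 := by rw [commutatorElement_eq_one_iff_mul_comm]; exact h1
      rw [h2]; exact one_mem _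
    · rw [SetLike.not_le_iff_exists] at hn
      obtain ⟨w, hw, hwn⟩ := hn
      have h3 : ⁅v, e⁆ ∈ cj (h * x) V := by
        have h4 : cj h (o2 (X i)) ≤ normalizer ((cj (h * x) V : Subgroup G) : Set G) := by
          have := cj_norm (g := h) ((t.pan i).o2_norm_line x.2)
          rwa [cj_cj] at this
        have h1 := conj_mem' h4 heQ (inv_mem hv)
        have e1 : ⁅v, e⁆ = v * (e * v⁻¹ * e⁻¹) := by simp only [commutatorElement_def]; group
        rw [e1]
        exact mul_mem hv h1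
      have h5 : ⁅v, e⁆ ∈ BF V X F₁ := by
        have h1 := conj_mem' X'_norm_B (t.hy.V_le_X (hU hvU)) he
        rw [commutatorElement_def]
        exact (BF V X F₁).mul_mem h1 ((BF V X F₁).inv_mem he)
      exact t.cent_le_cj x.2 (cj_mono h (t.pan i).Q0_X (hB hw)) hwn h3
        (mem_centralizer_iff.1 (t.B_comm h5) w hw).symm
  exact (key hu).2

/-- `|B : B ∩ Q^h|² ≤ |U^h : C(B)|` -/
theorem two_le {h : G} {i : ι} (hB : BF V X F₁ ≤ cj h Q0) :
    (cj h (o2 (X i))).relIndex (BF V X F₁) * (cj h (o2 (X i))).relIndex (BF V X F₁) ≤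
      (centralizer (BF V X F₁ : Set G)).relIndex (cj h (cl V (X i))) := by
  obtain ⟨N, hN, hXN, hE, hE'⟩ := t.two i
  have hBX : cj h⁻¹ (BF V X F₁) ≤ X i := by
    rw [cj_le_iff, inv_inv]
    exact hB.trans (cj_mono h (t.pan i).Q0_X)
  have h3 := (t.noov i).two hN (t.pan i).U_le_X (t.pan i).U_sq (t.pan i).U_comm hXN (le_normalizer_cl V (X i)) hE hE' hBX
    (fun a ha => by
      rw [mem_cj, inv_inv] at ha
      have h4 := t.B_sq _ ha
      have e : a ^ 2 = h⁻¹ * (h * a * h⁻¹) ^ 2 * h := by rw [pow_two, pow_two]; group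
      rw [e, h4, mul_one, inv_mul_cancel]
      exact one_mem _) (fun a ha b hb => by
      rw [mem_cj, inv_inv] at ha hb
      have h4 := mem_centralizer_iff.1 (t.B_comm ha) _ hb
      have e : a * b * a⁻¹ * b⁻¹ = h⁻¹ * ((h * a * h⁻¹) * (h * b * h⁻¹) * (h * a * h⁻¹)⁻¹ * (h * b * h⁻¹)⁻¹) * h := by
        group
      rw [e, ← h4, mul_inv_cancel_right, mul_inv_cancel, mul_one, inv_mul_cancel]
      exact one_mem _)
  have e1 : (o2 (X i)).relIndex (cj h⁻¹ (BF V X F₁)) = (cj h (o2 (X i))).relIndex (BF V X F₁) := by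
    rw [← relIndex_cj h, cj_cj_inv]
  have e2 : (centralizer ((cj h⁻¹ (BF V X F₁) : Subgroup G) : Set G)).relIndex (cl V (X i)) =
      (centralizer (BF V X F₁ : Set G)).relIndex (cj h (cl V (X i))) := by
    rw [← relIndex_cj h, cj_cents, cj_cj_inv]
  rw [e1, e2] at h3
  exact h3

/-- `|D : C_D(B)| ≤ |B : C_B(D)|` for `D ≤ E` -/
theorem noover_B {D : Subgroup G} (hD : D ≤ EE V' F₁) :
    (centralizer (BF V X F₁ : Set G)).relIndex D ≤ (centralizer (D : Set G)).relIndex (BF V X F₁) := by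
  refine step_prod (Y := fun k : ι × centralizer (F₁ : Set G) => cj (k.2 : G) (cl V (X k.1)))
    (B_le fun i y hy => le_iSup (fun k : ι × centralizer (F₁ : Set G) => cj (k.2 : G) (cl V (X k.1))) (i, ⟨y, hy⟩))
    (fun k => cjU_le_B k.1 k.2.2) fun k D' hD' => ?_
  have hDV : D' ≤ V' := (hD'.trans hD).trans inf_le_left
  refine noOver_cj (t.hno k.1) k.2 ?_ (fun a ha => t.hy.sq a (hDV ha)) (hDV.trans (t.hy.comm.trans (centralizer_le hDV)))
  exact ((hD'.trans hD).trans NOne.Flat.Hyp.E_le_W).trans ((t.W_le_cj k.2.2).trans (cj_mono _ (t.pan k.1).Q0_X))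

/-- **(5)** -/
theorem count {h : G} {i : ι} (hB : BF V X F₁ ≤ cj h Q0) (hU : cj h (cl V (X i)) ≤ V')
    (hE : ¬ cj h (cl V (X i)) ≤ EE V' F₁)
    (hline : ∀ x ∈ X i, BF V X F₁ ≤ normalizer ((cj (h * x) V : Subgroup G) : Set G) →
      BF V X F₁ ≤ centralizer ((cj (h * x) V : Subgroup G) : Set G)) :
    2 * (NN V' F₁).relIndex (BF V X F₁) ≤ (EE V' F₁).relIndex V' * (EE V' F₁).relIndex V' := by
  set B := BF V X F₁ with hBdef
  set E := EE V' F₁ with hEdef
  set Q := cj h (o2 (X i)) with hQ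
  set U := cj h (cl V (X i)) with hUdef
  -- a bad line
  have hl : ∃ x ∈ X i, ¬ cj (h * x) V ≤ E := by
    by_contra hcon
    push Not at hcon
    apply hE
    rw [hUdef]
    unfold cl
    rw [EZero.cj_iSup]
    refine iSup_le fun y => ?_
    rw [cj_cj]
    exact hcon y y.2
  obtain ⟨x, hx, hlE⟩ := hl
  set lam := cj (h * x) V with hlam
  have hlU : lam ≤ U := by
    rw [hlam, ← cj_cj]
    exact cj_mono h (cj_le_cl hx)
  have hlF : lam ⊓ F₁ = ⊥ := by
    by_contra h0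
    exact hlE (t.le_E (hlU.trans hU) h0)
  have hFF : cj h (F i) ⊓ F₁ = ⊥ := by
    rw [← le_bot_iff, ← hlF]
    refine inf_le_inf_right _ ?_
    rw [hlam, ← cj_cj]
    exact cj_mono h ((t.pan i).F_le_line hx)
  -- `[E₂, E₁] = 1`
  have hcomm : B ⊓ Q ≤ centralizer ((U ⊓ E : Subgroup G) : Set G) := by
    rintro e ⟨heB, heQ⟩
    rw [mem_centralizer_iff]
    rintro u ⟨huU, huE⟩
    have h1 := t.comm_mem_F hB hU hline huU heB heQ
    have h2 : ⁅u, e⁆ ∈ F₁ := by
      rw [commutatorElement_def]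
      exact t.hy.comm_EW huE (t.B_le_W heB)
    have h3 : ⁅u, e⁆ ∈ cj h (F i) ⊓ F₁ := ⟨h1, h2⟩
    rw [hFF, mem_bot, commutatorElement_eq_one_iff_mul_comm] at h3
    exact h3
  have hX0 : 0 < Q.relIndex B := Nat.pos_of_ne_zero index_ne_zero_of_finite
  -- `x ≤ ε`
  have hE2 : (centralizer (B : Set G)).relIndex (U ⊓ E) ≤ Q.relIndex B := by
    have h1 := t.noover_B (D := U ⊓ E) inf_le_right
    have h2 : (centralizer ((U ⊓ E : Subgroup G) : Set G)).relIndex B ≤ (B ⊓ Q).relIndex B :=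
      relIndex_le_of_le_left hcomm index_ne_zero_of_finite
    rw [inf_relIndex_left] at h2
    exact h1.trans h2
  have hUE : E.relIndex U ≤ E.relIndex V' := relIndex_le_of_le_right hU index_ne_zero_of_finite
  have hxe : Q.relIndex B ≤ E.relIndex V' := by
    have h1 := t.two_le (i := i) hB
    have h2 : (centralizer (B : Set G)).relIndex U ≤ (centralizer (B : Set G) ⊓ E).relIndex U :=
      relIndex_le_of_le_left inf_le_left index_ne_zero_of_finite
    rw [← relIndex_inf_mul_relIndex, inf_comm E U] at h2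
    have h3 : Q.relIndex B * Q.relIndex B ≤ Q.relIndex B * E.relIndex V' :=
      h1.trans (h2.trans (Nat.mul_le_mul hE2 hUE))
    exact Nat.le_of_mul_le_mul_left h3 hX0
  -- `|B : B ∩ N| ≤ |B : E₁| |E₁ : E₁ ∩ N|`
  have hN : (NN V' F₁).relIndex B ≤ (NN V' F₁).relIndex (B ⊓ Q) * Q.relIndex B := by
    rw [inf_comm B Q, relIndex_inf_mul_relIndex]
    exact relIndex_le_of_le_left inf_le_left index_ne_zero_of_finite
  -- the bad line
  have hcN : centralizer (lam : Set G) ⊓ (B ⊓ Q) ≤ NN V' F₁ := by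
    rintro s ⟨hs1, hs2, -⟩
    rw [SetLike.not_le_iff_exists] at hlE
    obtain ⟨w, hw, hwE⟩ := hlE
    have hwV : w ∈ V' := hU (hlU hw)
    rw [← t.hy.c_mem_F_iff hwV hwE (t.B_le_W hs2)]
    have h1 := mem_centralizer_iff.1 hs1 w hw
    rw [c_def, h1, mul_inv_cancel_right, mul_inv_cancel]
    exact one_mem _
  have hNl : (NN V' F₁).relIndex (B ⊓ Q) ≤ (centralizer (lam : Set G)).relIndex (B ⊓ Q) := by
    have h1 := relIndex_le_of_le_left (L := B ⊓ Q) hcN index_ne_zero_of_finite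
    rwa [inf_relIndex_right] at h1
  have hmain : 2 * (NN V' F₁).relIndex (B ⊓ Q) ≤ E.relIndex V' := by
    by_cases hc : B ⊓ Q ≤ centralizer (lam : Set G)
    · have h1 : (NN V' F₁).relIndex (B ⊓ Q) = 1 := by
        rw [relIndex_eq_one]
        exact (le_inf hc le_rfl).trans hcN
      rw [h1, mul_one]
      exact two_le_of_ne fun h0 => hE (hU.trans h0)
    · have h5 := ((t.pan i).nff.cj (h * x)) (B ⊓ Q) (t.isPGroup_B.to_le inf_le_left)
        (inf_le_right.trans (by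
          have := cj_norm (g := h) ((t.pan i).o2_norm_line hx)
          rwa [cj_cj] at this))
        (fun a ha => by rw [t.B_sq a ha.1]; exact one_mem _)
        (fun a ha b hb => by
          have e : a * b = b * a := (mem_centralizer_iff.1 (t.B_comm ha.1) b hb.1).symm
          rw [e, mul_inv_cancel_right, mul_inv_cancel]; exact one_mem _) hc
      have h6 := two_mul_le_of_lt (t.isPGroup_B.to_le inf_le_left)
        (isPGroup_cj _ (t.pan i).isPGroup_V) h5
      have h7 : (centralizer ((B ⊓ Q : Subgroup G) : Set G)).relIndex lam ≤ E.relIndex lam := by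
        have h8 : E ⊓ lam ≤ centralizer ((B ⊓ Q : Subgroup G) : Set G) :=
          (le_inf (inf_le_right.trans hlU) inf_le_left).trans (cent_symm hcomm)
        have h9 := relIndex_le_of_le_left (L := lam) h8 index_ne_zero_of_finite
        rwa [inf_relIndex_right] at h9
      have h8 : E.relIndex lam ≤ E.relIndex V' := relIndex_le_of_le_right (hlU.trans hU) index_ne_zero_of_finite
      calc 2 * (NN V' F₁).relIndex (B ⊓ Q) ≤ 2 * (centralizer (lam : Set G)).relIndex (B ⊓ Q) :=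
            Nat.mul_le_mul_left 2 hNl
        _ ≤ _ := h6
        _ ≤ _ := h7
        _ ≤ _ := h8
  calc 2 * (NN V' F₁).relIndex B ≤ 2 * ((NN V' F₁).relIndex (B ⊓ Q) * Q.relIndex B) := Nat.mul_le_mul_left 2 hN
    _ = (2 * (NN V' F₁).relIndex (B ⊓ Q)) * Q.relIndex B := by ring
    _ ≤ E.relIndex V' * E.relIndex V' := Nat.mul_le_mul hmain hxe

end BtF

end Cfsg.Agent.Omega.NO3b.BetaTwo

end

section


/-!
# THEOREM BETA2 for a family of panels (helper506, bb #21336 (A)), (3) and (4)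

`BtF.exists_B`, `BtF.relIndex_B`, `BtF.B_nle` (3), `BtF.line` (4) : `Line.lean` with `B = BF V X F₁`.
-/

set_option autoImplicit false

namespace Cfsg.Agent.Omega.NO3b.BetaTwo

open Subgroup Cfsg
open Cfsg.Agent.ZN.ChoiceBase (cj cj_cj cj_mono)
open Cfsg.Agent.Omega.NO3b.EZero
open Cfsg.Agent.Omega.NO3b.K0 (cj_of_le)
open Cfsg.Agent.Omega.NOne.Flat (EE WW NN)
open Cfsg.Agent.Omega.NOne.NearFF (c)

universe u v

namespace BtF

variable {G : Type u} [Group G] [Finite G] {ι : Type v} {V : Subgroup G} {F T X : ι → Subgroup G}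
  {L Q0 V' F₁ : Subgroup G} (t : BtF V F T X L Q0 V' F₁)
include t

theorem bn : BN V' F₁ (BF V X F₁) := ⟨t.B_le_W, X'_norm_B⟩

/-- **(3)** -/
theorem exists_B {w : G} (hw : w ∈ V') (hwE : w ∉ EE V' F₁) {r : G} (hr : r ∈ V' ⊓ BF V X F₁) :
    ∃ b ∈ BF V X F₁, c w b * r⁻¹ ∈ F₁ := by
  obtain ⟨s, hs, h1⟩ := t.bn.surj t.hy hw hwE hr
  refine ⟨s, hs, ?_⟩
  rwa [t.hy.inv (t.hy.c_memV hw (t.B_le_W hs)), ← t.hy.inv hr.1] at h1

/-- **(3)** -/
theorem relIndex_B : (NN V' F₁).relIndex (BF V X F₁) = F₁.relIndex (V' ⊓ BF V X F₁) := t.bn.relIndex_eq t.hy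

theorem B_nle : ¬ BF V X F₁ ≤ NN V' F₁ := by
  intro h0
  obtain ⟨i, hi⟩ := t.WX
  have h1 := t.relIndex_B
  rw [relIndex_eq_one.2 h0] at h1
  have h2 : V' ⊓ BF V X F₁ ≤ F₁ := relIndex_eq_one.1 h1.symm
  have h3 : cl V (X i) ≤ F₁ := (le_inf (t.UV i) (U_le_B i)).trans h2
  have h4 : WW V' F₁ ≤ centralizer (cl V (X i) : Set G) :=
    NOne.Flat.Hyp.W_le_X.trans (centralizer_le h3)
  exact hi ((t.pan i).le_o2_of_cent_U NOne.Flat.Hyp.W_isPGroup (t.WQ.trans (t.pan i).Q0_X) h4)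

/-- **(4)** -/
theorem line {h : G} {i : ι} (hU : cj h (cl V (X i)) ≤ V') {x : G} (hx : x ∈ X i)
    (hn : BF V X F₁ ≤ normalizer ((cj (h * x) V : Subgroup G) : Set G)) :
    BF V X F₁ ≤ centralizer ((cj (h * x) V : Subgroup G) : Set G) := by
  have h1 : cj (h * x) V ≤ V' := by
    rw [← cj_cj]
    exact (cj_mono h (cj_le_cl hx)).trans hU
  by_cases hE : cj (h * x) V ≤ EE V' F₁
  · refine B_le fun j y hy => ?_
    have h2 : cl V (X j) ≤ centralizer ((cj (y⁻¹ * (h * x)) V : Subgroup G) : Set G) := by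
      refine cent_symm (t.sm j (y⁻¹ * (h * x)) ?_ ?_)
      · rw [← cj_cj]
        exact ((cj_mono _ hE).trans (Bt.conjE_le_W' (inv_mem hy))).trans (t.WQ.trans (t.pan j).Q0_X)
      · have h3 := cj_norm (g := y⁻¹) hn
        rw [cj_of_le X'_norm_B (inv_mem hy), cj_cj] at h3
        exact (U_le_B j).trans h3
    have h3 := cj_cent (g := y) h2
    rwa [cj_cj, mul_inv_cancel_left] at h3
  · have hF : cj (h * x) V ⊓ F₁ = ⊥ := by
      by_contra h2
      exact hE (t.le_E h1 h2)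
    exact absurd hn (t.bn.no_line t.hy h1 hE hF ((t.pan i).nff.cj _) t.B_nle t.B_sq t.B_comm)

end BtF

end Cfsg.Agent.Omega.NO3b.BetaTwo

end
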